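import Cfsg.Agent.Lib.Helper1.Frobenius
import Cfsg.Agent.Lib.Helper1.Misc
import Cfsg.Agent.Lib.Helper2.Schmidt
import Cfsg.Agent.S0581

set_option autoImplicit false
open Pointwise
open scoped commutatorElement

namespace Cfsg.Agent.Lib.Helper1.Control

open Cfsg Cfsg.Agent.Lib.Helper1

variable {G : Type*} [Group G]

theorem pResidual_idem (p : ℕ) : Cfsg.pResidual p ↥(Cfsg.pResidual p G) = ⊤ := by
  rw [eq_top_iff]
  have h : Cfsg.pResidual p G ≤
      (Cfsg.pResidual p ↥(Cfsg.pResidual p G)).map (Cfsg.pResidual p G).subtype := by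
    conv_lhs => rw [Cfsg.pResidual]
    rw [Subgroup.closure_le]
    intro g hg
    refine ⟨⟨g, mem_pResidual_of_coprime hg⟩, mem_pResidual_of_coprime ?_, rfl⟩
    rw [Subgroup.orderOf_mk]; exact hg
  intro x _
  obtain ⟨y, hy, hxy⟩ := h x.2
  have : y = x := Subtype.ext hxy
  rw [← this]; exact hy

/-- a Sylow subgroup whose fusion is controlled by a nilpotent overgroup forces a normal `p`-complement. -/
theorem pn_of_control [Finite G] {p : ℕ} [hp : Fact p.Prime] (P : Sylow p G) (T : Subgroup G)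
    (hT : Group.IsNilpotent T) (hPT : (P : Subgroup G) ≤ T)
    (hctl : ∀ x ∈ (P : Subgroup G), ∀ g : G, g * x * g⁻¹ ∈ (P : Subgroup G) →
      ∃ u ∈ T, u * x * u⁻¹ = g * x * g⁻¹) :
    (Nat.card (Cfsg.pResidual p G)).Coprime p := by
  have hctl' : ∀ P₁ : Sylow p G, ∃ T₁ : Subgroup G, Group.IsNilpotent T₁ ∧ (P₁ : Subgroup G) ≤ T₁ ∧
      ∀ x ∈ (P₁ : Subgroup G), ∀ g : G, g * x * g⁻¹ ∈ (P₁ : Subgroup G) →
      ∃ u ∈ T₁, u * x * u⁻¹ = g * x * g⁻¹ := by
    intro P₁
    obtain ⟨a, ha⟩ := MulAction.exists_smul_eq G P P₁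
    refine ⟨MulAut.conj a • T, Group.nilpotent_of_mulEquiv (Subgroup.equivSMul (MulAut.conj a) T), ?_, ?_⟩
    · rw [← ha, Sylow.coe_subgroup_smul]
      exact conj_smul_mono a hPT
    intro x hx g hg
    rw [← ha, Sylow.coe_subgroup_smul, mem_conj_smul] at hx hg
    obtain ⟨u, hu, hue⟩ := hctl (a⁻¹ * x * a) hx (a⁻¹ * g * a) (by
      have : a⁻¹ * g * a * (a⁻¹ * x * a) * (a⁻¹ * g * a)⁻¹ = a⁻¹ * (g * x * g⁻¹) * a := by group
      rw [this]; exact hg)
    refine ⟨a * u * a⁻¹, ?_, ?_⟩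
    · rw [mem_conj_smul]
      have : a⁻¹ * (a * u * a⁻¹) * a = u := by group
      rw [this]; exact hu
    · have e1 : a * u * a⁻¹ * x * (a * u * a⁻¹)⁻¹ = a * (u * (a⁻¹ * x * a) * u⁻¹) * a⁻¹ := by group
      rw [e1, hue]; group
  obtain ⟨M, hM⟩ : ∃ M, M = Cfsg.pResidual p G := ⟨_, rfl⟩
  rw [← hM]
  obtain ⟨Q'⟩ : Nonempty (Sylow p M) := inferInstance
  have hQp : IsPGroup p ((Q' : Subgroup M).map M.subtype) := Q'.2.map _
  obtain ⟨P₁, hP₁⟩ := hQp.exists_le_sylow
  obtain ⟨T₁, hT₁, hPT₁, hc₁⟩ := hctl' P₁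
  obtain ⟨h1, -, -⟩ := focal_sylow Q'
  have hker : (Q' : Subgroup M).transferFocal.ker = ⊤ := by
    rw [eq_top_iff]
    have h2 : Cfsg.pResidual p M = ⊤ := by rw [hM]; exact pResidual_idem p
    rw [← h2]
    apply pResidual_le_ker
    exact (Q'.2).to_quotient _
  rw [hker, top_inf_eq] at h1
  have h3 : (Q' : Subgroup M).map M.subtype ≤ ⁅(Q' : Subgroup M).map M.subtype, T₁⁆ := by
    rw [Subgroup.map_le_iff_le_comap]
    conv_lhs => rw [h1, Subgroup.focalSubgroup_def]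
    rw [Subgroup.closure_le]
    rintro g ⟨hg, x, hx, u, rfl⟩
    rw [SetLike.mem_coe, Subgroup.mem_comap]
    have hx' : (x : G) ∈ (P₁ : Subgroup G) := hP₁ ⟨x, hx, rfl⟩
    have hux : u * x * u⁻¹ ∈ (Q' : Subgroup M) := by
      have : u * x * u⁻¹ = (⁅x, u⁆⁻¹ * x)  := by rw [commutatorElement_def]; group
      rw [this]
      exact Subgroup.mul_mem _ (Subgroup.inv_mem _ hg) hx
    have hux' : (u : G) * x * (u : G)⁻¹ ∈ (P₁ : Subgroup G) := hP₁ ⟨_, hux, rfl⟩
    obtain ⟨v, hv, hve⟩ := hc₁ x hx' u hux'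
    have e : M.subtype ⁅x, u⁆ = ⁅(x : G), v⁆ := by
      rw [commutatorElement_def, commutatorElement_def]
      have e1 : M.subtype (x * u * x⁻¹ * u⁻¹) = (x : G) * ((u : G) * x * (u : G)⁻¹)⁻¹ := by
        simp only [Subgroup.coe_subtype, Subgroup.coe_mul, Subgroup.coe_inv]; group
      rw [e1, ← hve]; group
    rw [e]
    exact Subgroup.commutator_mem_commutator ⟨x, hx, rfl⟩ hv
  have h4 := eq_bot_of_le_commutator hT₁ (hP₁.trans hPT₁) h3
  have h5 : (Q' : Subgroup M) = ⊥ := by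
    rw [Subgroup.map_eq_bot_iff_of_injective _ M.subtype_injective] at h4
    exact h4
  rw [Nat.coprime_comm, Nat.Prime.coprime_iff_not_dvd hp.out]
  intro hd
  have h6 := Q'.card_eq_multiplicity
  rw [h5, Subgroup.card_bot] at h6
  have h7 : (Nat.card M).factorization p ≠ 0 := by
    have := (Nat.Prime.dvd_iff_one_le_factorization hp.out Nat.card_pos.ne').mp hd
    omega
  exact (Nat.one_lt_pow h7 hp.out.one_lt).ne h6

theorem wielandt_sub [Finite G] (C H K : Subgroup G) (hHC : H ≤ C) (hKC : K ≤ C)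
    (hH : Group.IsNilpotent H) (hHall : (Nat.card H).Coprime H.index)
    (hK : ∀ p : ℕ, p.Prime → p ∣ Nat.card K → p ∣ Nat.card H) : ∃ c ∈ C, K ≤ MulAut.conj c • H := by
  have hnil : Group.IsNilpotent (H.subgroupOf C) :=
    Group.nilpotent_of_mulEquiv (Subgroup.subgroupOfEquivOfLe hHC).symm
  obtain ⟨x, hx⟩ := Cfsg.Agent.S0581.result (G := C) (H.subgroupOf C) (K.subgroupOf C) hnil
    (by
      rw [card_subgroupOf hHC]
      apply Nat.Coprime.coprime_dvd_right _ hHall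
      exact ⟨_, (Subgroup.relIndex_mul_index hHC).symm⟩)
    (by
      intro p hp hd
      rw [card_subgroupOf hKC] at hd
      rw [card_subgroupOf hHC]
      exact hK p hp hd)
  refine ⟨x, x.2, ?_⟩
  intro k hk
  have h1 : (⟨k, hKC hk⟩ : C) ∈ K.subgroupOf C := Subgroup.mem_subgroupOf.mpr hk
  have h2 := hx h1
  rw [mem_conj_smul, Subgroup.mem_subgroupOf] at h2
  rw [mem_conj_smul]
  exact h2

theorem isComplement'_of_inf_sup {N H : Subgroup G} [N.Normal] (h1 : N ⊓ H = ⊥) (h2 : N ⊔ H = ⊤) :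
    N.IsComplement' H := by
  apply Subgroup.isComplement'_of_disjoint_and_mul_eq_univ (disjoint_iff.mpr h1)
  rw [← Subgroup.normal_mul, h2]
  rfl

theorem hall_central [Finite G] (H : Subgroup G) (hHall : Nat.Coprime (Nat.card H) H.index)
    (h : Subgroup.normalizer (H : Set G) ≤ Subgroup.centralizer (H : Set G)) :
    ∃ N : Subgroup G, N.Normal ∧ N.IsComplement' H := by
  have hab : ∀ a ∈ H, ∀ b ∈ H, a * b = b * a := by
    intro a ha b hb
    exact (Subgroup.mem_centralizer_iff.mp (h (Subgroup.le_normalizer hb)) a ha)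
  haveI : IsMulCommutative H := IsMulCommutative.of_setLike_mul_comm hab
  have hnil : Group.IsNilpotent H := by
    letI : CommGroup H := { (inferInstance : Group H) with mul_comm := fun a b => mul_comm' a b }
    infer_instance
  have hfus : ∀ x ∈ H, ∀ g : G, g * x * g⁻¹ ∈ H → g * x * g⁻¹ = x := by
    intro x hx g hg
    obtain ⟨y, hy⟩ : ∃ y, y = g * x * g⁻¹ := ⟨_, rfl⟩
    rw [← hy] at hg ⊢
    have hHC : H ≤ Subgroup.centralizer ({y} : Set G) := by
      intro a ha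
      rw [Subgroup.mem_centralizer_iff]
      intro z hz
      rw [Set.mem_singleton_iff] at hz
      rw [hz]; exact hab y hg a ha
    have hKC : MulAut.conj g • H ≤ Subgroup.centralizer ({y} : Set G) := by
      intro a ha
      rw [mem_conj_smul] at ha
      rw [Subgroup.mem_centralizer_iff]
      intro z hz
      rw [Set.mem_singleton_iff] at hz
      rw [hz, hy]
      have := hab x hx _ ha
      have e1 : g * x * g⁻¹ * a = g * (x * (g⁻¹ * a * g)) * g⁻¹ := by group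
      have e2 : a * (g * x * g⁻¹) = g * ((g⁻¹ * a * g) * x) * g⁻¹ := by group
      rw [e1, e2, this]
    obtain ⟨c, hc, hle⟩ := wielandt_sub _ H (MulAut.conj g • H) hHC hKC hnil hHall
      (by intro p _ hd; rw [card_conj_smul] at hd; exact hd)
    have heq : MulAut.conj g • H = MulAut.conj c • H :=
      Subgroup.eq_of_le_of_card_ge hle (by rw [card_conj_smul, card_conj_smul])
    have hn : c⁻¹ * g ∈ Subgroup.normalizer (H : Set G) := by
      apply mem_normalizer_of_conj_smul_eq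
      rw [← conj_smul_smul, heq, conj_smul_smul, inv_mul_cancel, map_one, one_smul]
    have hcen := Subgroup.mem_centralizer_iff.mp (h hn) x hx
    have hcy := Subgroup.mem_centralizer_iff.mp hc y rfl
    -- x * (c⁻¹ g) = (c⁻¹ g) * x
    have e3 : c⁻¹ * y * c = x := by
      rw [hy]
      have : c⁻¹ * (g * x * g⁻¹) * c = (c⁻¹ * g * x) * (c⁻¹ * g)⁻¹ := by group
      rw [this, ← hcen]; group
    have e4 : c⁻¹ * y * c = y := by
      rw [mul_assoc, hcy]; group
    rw [← e4, e3]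
  have hfoc : H.focalSubgroup = ⊥ := by
    rw [Subgroup.focalSubgroup_def, Subgroup.closure_eq_bot_iff]
    rintro g ⟨hg, x, hx, u, rfl⟩
    have hux : u * x * u⁻¹ ∈ H := by
      have : u * x * u⁻¹ = (⁅x, u⁆⁻¹ * x)  := by rw [commutatorElement_def]; group
      rw [this]
      exact Subgroup.mul_mem _ (Subgroup.inv_mem _ hg) hx
    have := hfus x hx u hux
    rw [Set.mem_singleton_iff, commutatorElement_def]
    have e : x * u * x⁻¹ * u⁻¹ = x * (u * x * u⁻¹)⁻¹ := by group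
    rw [e, this, mul_inv_cancel]
  obtain ⟨h1, h2, -⟩ := focal_general H (by rw [hfoc, Subgroup.relIndex_bot_left]; exact hHall.symm)
  rw [hfoc] at h1
  exact ⟨_, inferInstance, isComplement'_of_inf_sup h1 h2⟩

theorem nilpotent_hall_complement [Finite G] (H : Subgroup G) (hH : Group.IsNilpotent H)
    (hHall : Nat.Coprime (Nat.card H) H.index)
    (hfus : ∀ x ∈ H, ∀ y ∈ H, (∃ g : G, g * x * g⁻¹ = y) → ∃ h ∈ H, h * x * h⁻¹ = y) :
    ∃ N : Subgroup G, N.Normal ∧ N.IsComplement' H := by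
  have hsyl : ∀ p : ℕ, p.Prime → p ∣ Nat.card H → ∀ [Fact p.Prime], ∃ P : Sylow p G, (P : Subgroup G) ≤ H := by
    intro p hp hd _
    obtain ⟨P₀⟩ : Nonempty (Sylow p G) := inferInstance
    obtain ⟨x, hx⟩ := Cfsg.Agent.S0581.result H (P₀ : Subgroup G) hH hHall (by
      intro q hq hqd
      obtain ⟨k, hk⟩ := IsPGroup.iff_card.mp P₀.2
      rw [hk] at hqd
      have := (Nat.prime_dvd_prime_iff_eq hq hp).mp (hq.dvd_of_dvd_pow hqd)
      rw [this]; exact hd)
    refine ⟨x⁻¹ • P₀, ?_⟩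
    rw [Sylow.coe_subgroup_smul, conj_smul_le_iff, inv_inv]
    exact hx
  have hcop : ∀ p : ℕ, p.Prime → p ∣ Nat.card H → (Nat.card (Cfsg.pResidual p G)).Coprime p := by
    intro p hp hd
    haveI := Fact.mk hp
    obtain ⟨P, hP⟩ := hsyl p hp hd
    apply pn_of_control P H hH hP
    intro x hx g hg
    exact hfus x (hP hx) _ (hP hg) ⟨g, rfl⟩
  obtain ⟨N, hN⟩ : ∃ N : Subgroup G, N = ⨅ p : {p : ℕ // p.Prime ∧ p ∣ Nat.card H}, Cfsg.pResidual p G :=
    ⟨_, rfl⟩
  have hNn : N.Normal := by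
    rw [hN]
    exact Subgroup.normal_iInf_normal (fun p => pResidual_normal p.1)
  have hNle : ∀ p : ℕ, p.Prime → p ∣ Nat.card H → N ≤ Cfsg.pResidual p G := by
    intro p hp hd
    rw [hN]
    exact iInf_le (fun p : {p : ℕ // p.Prime ∧ p ∣ Nat.card H} => Cfsg.pResidual p.1 G) ⟨p, hp, hd⟩
  refine ⟨N, hNn, isComplement'_of_inf_sup ?_ ?_⟩
  · apply Subgroup.inf_eq_bot_of_coprime
    rw [Nat.coprime_iff_gcd_eq_one, Nat.eq_one_iff_not_exists_prime_dvd]
    intro q hq hqd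
    have h1 : q ∣ Nat.card H := hqd.trans (Nat.gcd_dvd_right _ _)
    have h2 : q ∣ Nat.card (Cfsg.pResidual q G) :=
      (hqd.trans (Nat.gcd_dvd_left _ _)).trans (Subgroup.card_dvd_of_le (hNle q hq h1))
    exact hq.one_lt.ne' (Nat.eq_one_of_dvd_coprimes (hcop q hq h1) h2 dvd_rfl)
  · apply eq_top_of_sylow_le
    intro q hq
    by_cases hd : q ∣ Nat.card H
    · obtain ⟨P, hP⟩ := hsyl q hq.out hd
      exact ⟨P, hP.trans le_sup_right⟩
    · obtain ⟨R⟩ : Nonempty (Sylow q G) := inferInstance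
      refine ⟨R, le_trans ?_ le_sup_left⟩
      intro r hr
      rw [hN, Subgroup.mem_iInf]
      rintro ⟨p, hp, hpd⟩
      apply mem_pResidual_of_coprime
      obtain ⟨k, hk⟩ := (IsPGroup.iff_orderOf.mp R.2) ⟨r, hr⟩
      rw [Subgroup.orderOf_mk] at hk
      rw [hk]
      apply Nat.Coprime.pow_left
      rw [Nat.coprime_primes hq.out hp]
      rintro rfl
      exact hd hpd

end Cfsg.Agent.Lib.Helper1.Control

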