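import Mathlib

set_option autoImplicit false

namespace Cfsg.Agent.Lib.Helper1.Cyc

theorem mem_zpowers_of_orderOf_dvd {G : Type*} [Group G] [Finite G] [IsCyclic G] (x y : G)
    (h : orderOf x ∣ orderOf y) : x ∈ Subgroup.zpowers y := by
  classical
  haveI := Fintype.ofFinite G
  have h1 := IsCyclic.card_pow_eq_one_le (α := G) (orderOf_pos y)
  have h2 : ((Subgroup.zpowers y : Subgroup G) : Set G) ⊆ {a | a ^ orderOf y = 1} := by
    intro a ha
    obtain ⟨k, rfl⟩ := Subgroup.mem_zpowers_iff.mp ha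
    show (y ^ k) ^ orderOf y = 1
    rw [← zpow_natCast, ← zpow_mul, mul_comm, zpow_mul, zpow_natCast, pow_orderOf_eq_one, one_zpow]
  have h3 : ((Subgroup.zpowers y : Subgroup G) : Set G) = {a | a ^ orderOf y = 1} := by
    apply Set.eq_of_subset_of_ncard_le h2 _ (Set.toFinite _)
    have e1 : ({a | a ^ orderOf y = 1} : Set G) = ↑(Finset.univ.filter (fun a : G => a ^ orderOf y = 1)) := by
      ext a; simp
    have e2 : ((Subgroup.zpowers y : Subgroup G) : Set G).ncard = orderOf y := by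
      rw [← Nat.card_zpowers]; rfl
    rw [e1, Set.ncard_coe_finset, e2]
    exact h1
  have h4 : x ∈ ({a | a ^ orderOf y = 1} : Set G) := orderOf_dvd_iff_pow_eq_one.mp h
  rw [← h3] at h4
  exact h4

theorem mem_zpowers_of_orderOf_dvd' {G : Type*} [Group G] [Finite G] (K : Subgroup G) (hK : IsCyclic K)
    {x y : G} (hx : x ∈ K) (hy : y ∈ K) (h : orderOf x ∣ orderOf y) : x ∈ Subgroup.zpowers y := by
  have h1 := mem_zpowers_of_orderOf_dvd (⟨x, hx⟩ : K) ⟨y, hy⟩ (by
    rw [← Subgroup.orderOf_coe, ← Subgroup.orderOf_coe]; exact h)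
  obtain ⟨k, hk⟩ := Subgroup.mem_zpowers_iff.mp h1
  exact Subgroup.mem_zpowers_iff.mpr ⟨k, congrArg Subtype.val hk⟩

end Cfsg.Agent.Lib.Helper1.Cyc
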