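import Cfsg.Agent.Lib.Helper1.FrobPrime

set_option autoImplicit false

namespace Cfsg.Agent.Lib.Helper1

open scoped Pointwise commutatorElement

variable {G : Type*} [Group G]

theorem card_closure_le_pow [Finite G] (hcomm : ∀ a b : G, a * b = b * a) {p : ℕ} (hp : 0 < p)
    (T : Finset G) (hT : ∀ t ∈ T, t ^ p = 1) : Nat.card (Subgroup.closure (T : Set G)) ≤ p ^ T.card := by
  classical
  induction T using Finset.induction_on with
  | empty => simp
  | insert a s ha ih =>
    have ih' := ih (fun t ht => hT t (Finset.mem_insert_of_mem ht))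
    rw [Finset.coe_insert, Set.insert_eq, Subgroup.closure_union, Finset.card_insert_of_notMem ha]
    have hn : (Subgroup.closure (s : Set G)).Normal :=
      ⟨fun n hn g => by rw [hcomm g n, mul_inv_cancel_right]; exact hn⟩
    have h1 := card_sup_mul_card_inf (Subgroup.closure {a}) (Subgroup.closure (s : Set G))
    have h2 : Nat.card (Subgroup.closure ({a} : Set G)) ≤ p := by
      rw [← Subgroup.zpowers_eq_closure, Nat.card_zpowers]
      exact orderOf_le_of_pow_eq_one hp (hT a (Finset.mem_insert_self a s))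
    have h3 : Nat.card (Subgroup.closure {a} ⊔ Subgroup.closure (s : Set G) : Subgroup G) ≤
        Nat.card (Subgroup.closure ({a} : Set G)) * Nat.card (Subgroup.closure (s : Set G)) := by
      rw [← h1]
      exact Nat.le_mul_of_pos_right _ Nat.card_pos
    calc _ ≤ _ := h3
      _ ≤ p * p ^ s.card := Nat.mul_le_mul h2 ih'
      _ = p ^ (s.card + 1) := by rw [pow_succ, mul_comm]

/-- Burnside basis, easy half: `|Q : Φ(Q)|` divides `p ^ rank Q`. -/
theorem frattini_index_dvd_pow_rank [Finite G] {p : ℕ} [hp : Fact p.Prime] (hG : IsPGroup p G) :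
    (frattini G).index ∣ p ^ Group.rank G := by
  classical
  obtain ⟨S, hS1, hS2⟩ := Group.rank_spec G
  have h12 := Cfsg.Agent.S0012.result (G := G) p hG
  have hcomm : ∀ a b : G ⧸ frattini G, a * b = b * a := by
    intro a b
    obtain ⟨a, rfl⟩ := QuotientGroup.mk_surjective a
    obtain ⟨b, rfl⟩ := QuotientGroup.mk_surjective b
    rw [← QuotientGroup.mk_mul, ← QuotientGroup.mk_mul, QuotientGroup.eq]
    have h1 : ⁅b⁻¹, a⁻¹⁆ ∈ frattini G :=
      h12.1 (Subgroup.commutator_mem_commutator (Subgroup.mem_top _) (Subgroup.mem_top _))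
    have h2 : (a * b)⁻¹ * (b * a) = ⁅b⁻¹, a⁻¹⁆ := by rw [commutatorElement_def]; group
    rw [h2]; exact h1
  have hle : Nat.card (G ⧸ frattini G) ≤ p ^ Group.rank G := by
    have h1 := card_closure_le_pow hcomm hp.out.pos (S.image (QuotientGroup.mk' (frattini G))) (by
      intro t ht
      obtain ⟨s, -, rfl⟩ := Finset.mem_image.mp ht
      rw [← map_pow]
      exact (QuotientGroup.eq_one_iff _).mpr (h12.2 s))
    have h2 : Subgroup.closure ((S.image (QuotientGroup.mk' (frattini G)) : Finset (G ⧸ frattini G)) : Set (G ⧸ frattini G)) = ⊤ := by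
      rw [Finset.coe_image, ← MonoidHom.map_closure, hS2, ← MonoidHom.range_eq_map,
        MonoidHom.range_eq_top.mpr (QuotientGroup.mk'_surjective _)]
    rw [h2, Subgroup.card_top] at h1
    exact h1.trans ((Nat.pow_le_pow_right hp.out.pos Finset.card_image_le).trans (by rw [hS1]))
  obtain ⟨k, hk⟩ := IsPGroup.iff_card.mp hG
  have h5 : (frattini G).index ∣ p ^ k := hk ▸ (frattini G).index_dvd_card
  obtain ⟨j, -, hj⟩ := (Nat.dvd_prime_pow hp.out).mp h5
  rw [Subgroup.index_eq_card] at hj ⊢
  rw [hj] at hle ⊢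
  exact pow_dvd_pow p ((Nat.pow_le_pow_iff_right hp.out.one_lt).mp hle)

/-- To check that an element centralizes, it is enough to treat subgroups of prime power order. -/
theorem mem_centralizer_of_forall_prime_power [Finite G] (Q : Subgroup G) (g : G)
    (hg : g ∈ Subgroup.normalizer (Q : Set G))
    (h : ∀ (q : ℕ) [Fact q.Prime], q ∣ Nat.card G → ∀ A : Subgroup G, IsPGroup q A →
      A ≤ Subgroup.normalizer (Q : Set G) → A ≤ Subgroup.centralizer (Q : Set G)) :
    g ∈ Subgroup.centralizer (Q : Set G) := by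
  set Z := Subgroup.zpowers g with hZ
  have hZN : Z ≤ Subgroup.normalizer (Q : Set G) := (Subgroup.zpowers_le).mpr hg
  have key : Z ⊓ Subgroup.centralizer (Q : Set G) = Z := by
    apply eq_of_forall_sylow_le inf_le_left
    intro q hq
    haveI := Fact.mk hq
    obtain ⟨R, hRZ, hRc⟩ := exists_sylow_sub Z q
    refine ⟨R, le_inf hRZ ?_, hRc⟩
    by_cases hR1 : R = ⊥
    · rw [hR1]; exact bot_le
    have hqR : q ∣ Nat.card R := by
      rcases Nat.eq_zero_or_pos ((Nat.card Z).factorization q) with h0 | h0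
      · rw [h0, pow_zero] at hRc
        exact absurd (Subgroup.card_eq_one.mp hRc) hR1
      · rw [hRc]; exact dvd_pow_self q h0.ne'
    exact h q (hqR.trans (Subgroup.card_subgroup_dvd_card R)) R (IsPGroup.of_card hRc) (hRZ.trans hZN)
  have : g ∈ Z ⊓ Subgroup.centralizer (Q : Set G) := by rw [key]; exact Subgroup.mem_zpowers g
  exact (Subgroup.mem_inf.mp this).2

theorem pgroup_le_sylow_of_le_normalizer [Finite G] {p : ℕ} [hp : Fact p.Prime] (P : Sylow p G) {R : Subgroup G}
    (hR : IsPGroup p R) (hRN : R ≤ Subgroup.normalizer ((P : Subgroup G) : Set G)) : R ≤ (P : Subgroup G) :=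
  (hR.sylow_mem_fixedPoints_iff).mp ((Subgroup.sylow_mem_fixedPoints_iff R).mpr hRN)

end Cfsg.Agent.Lib.Helper1
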