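import Mathlib

set_option autoImplicit false

namespace Cfsg.Agent.Lib.Helper1.UPrime

/-- `g` normalizes the abelian subgroup `N`, `g ^ m` centralizes `N` with `m` prime to `|N|`, and `g`
centralizes every element of prime order of `N`. Then `g` centralizes `N`. -/
theorem centralizes_of_prime_order {G : Type*} [Group G] [Finite G] (N : Subgroup G)
    (hN : ∀ a ∈ N, ∀ b ∈ N, a * b = b * a) (g : G) (hg : ∀ b ∈ N, g * b * g⁻¹ ∈ N) (m : ℕ)
    (hm : m.Coprime (Nat.card N)) (hgm : ∀ b ∈ N, g ^ m * b = b * g ^ m)
    (hprime : ∀ u ∈ N, (orderOf u).Prime → g * u = u * g) : ∀ b ∈ N, g * b = b * g := by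
  have key : ∀ (n : ℕ) (b : G), orderOf b = n → b ∈ N → g * b = b * g := by
    intro n
    induction n using Nat.strong_induction_on with
    | _ n ih =>
      intro b hbn hb
      by_cases hb1 : b = 1
      · rw [hb1]; simp
      have ho1 : orderOf b ≠ 1 := fun h => hb1 (orderOf_eq_one_iff.mp h)
      obtain ⟨q, hq, hqd⟩ := Nat.exists_prime_and_dvd ho1
      have hoq : orderOf (b ^ q) = orderOf b / q := orderOf_pow_of_dvd hq.ne_zero hqd
      have hlt : orderOf (b ^ q) < n := by
        rw [hoq, ← hbn]
        exact Nat.div_lt_self (orderOf_pos b) hq.one_lt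
      have hbq : g * b ^ q = b ^ q * g := ih _ hlt (b ^ q) rfl (N.pow_mem hb q)
      obtain ⟨u, hu⟩ : ∃ u, u = b⁻¹ * (g * b * g⁻¹) := ⟨_, rfl⟩
      have huN : u ∈ N := by rw [hu]; exact N.mul_mem (N.inv_mem hb) (hg b hb)
      have huq : u ^ q = 1 := by
        have hc : Commute b⁻¹ (g * b * g⁻¹) := hN _ (N.inv_mem hb) _ (hg b hb)
        rw [hu, hc.mul_pow, conj_pow, hbq, inv_pow]; group
      have hgb : g * b * g⁻¹ = b * u := by rw [hu]; group
      by_cases hu1 : u = 1
      · rw [hu1, mul_one] at hgb
        calc g * b = g * b * g⁻¹ * g := by group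
          _ = b * g := by rw [hgb]
      exfalso
      haveI := Fact.mk hq
      have hou : orderOf u = q := orderOf_eq_prime huq hu1
      have hgu : g * u = u * g := hprime u huN (by rw [hou]; exact hq)
      have hpow : ∀ k : ℕ, g ^ k * b * (g ^ k)⁻¹ = b * u ^ k := by
        intro k
        induction k with
        | zero => simp
        | succ k ihk =>
          have hguk : g * u ^ k = u ^ k * g := (Commute.pow_right (show Commute g u from hgu) k)
          calc g ^ (k + 1) * b * (g ^ (k + 1))⁻¹ = g * (g ^ k * b * (g ^ k)⁻¹) * g⁻¹ := by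
                rw [pow_succ']; group
            _ = g * (b * u ^ k) * g⁻¹ := by rw [ihk]
            _ = (g * b * g⁻¹) * (g * u ^ k) * g⁻¹ := by group
            _ = (b * u) * (u ^ k * g) * g⁻¹ := by rw [hgb, hguk]
            _ = b * u ^ (k + 1) := by rw [pow_succ']; group
      have h1 := hpow m
      rw [hgm b hb, mul_inv_cancel_right] at h1
      have h2 : u ^ m = 1 := by
        have := mul_left_cancel (h1.symm.trans (mul_one b).symm)
        exact this
      have h3 : q ∣ m := by rw [← hou]; exact orderOf_dvd_of_pow_eq_one h2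
      have h4 : q ∣ Nat.card N := by
        have h5 : orderOf (⟨b, hb⟩ : N) ∣ Nat.card N := orderOf_dvd_natCard _
        rw [Subgroup.orderOf_mk] at h5
        exact hqd.trans h5
      exact hq.one_lt.ne' (Nat.eq_one_of_dvd_coprimes hm h3 h4)
  intro b hb
  exact key _ b rfl hb

end Cfsg.Agent.Lib.Helper1.UPrime
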