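import Mathlib
import Cfsg.Agent.Lib.Helper1.UPrime
import Cfsg.Agent.Lib.Helper1.Cyc
import Cfsg.Agent.Lib.Helper1.RankFrattini

set_option autoImplicit false

namespace Cfsg.Agent.Lib.Helper1.CycSyl

open Cfsg.Agent.Lib.Helper1

/-- an element normalizing a cyclic Sylow subgroup `P` and centralizing a non-identity element of `P`
centralizes `P`. -/
theorem mem_centralizer_of_commute {G : Type*} [Group G] [Finite G] (p : ℕ) [Fact p.Prime] (P : Sylow p G)
    (hcyc : IsCyclic ↥(P : Subgroup G)) (c : G) (hcN : c ∈ Subgroup.normalizer ((P : Subgroup G) : Set G))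
    (x : G) (hx : x ∈ (P : Subgroup G)) (hx1 : x ≠ 1) (hc : c * x = x * c) :
    c ∈ Subgroup.centralizer ((P : Subgroup G) : Set G) := by
  have hp : p.Prime := Fact.out
  have hab : ∀ a ∈ (P : Subgroup G), ∀ b ∈ (P : Subgroup G), a * b = b * a := by
    intro a ha b hb
    have := hcyc.commutative.is_comm.comm (⟨a, ha⟩ : (P : Subgroup G)) ⟨b, hb⟩
    exact congrArg Subtype.val this
  obtain ⟨e, m, hm, hcm⟩ := Nat.exists_eq_pow_mul_and_not_dvd (orderOf_pos c).ne' p hp.ne_one
  have hcmP : c ^ m ∈ (P : Subgroup G) := by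
    have h1 : IsPGroup p (Subgroup.zpowers (c ^ m)) := by
      apply IsPGroup.of_card (n := e)
      rw [Nat.card_zpowers, orderOf_pow_of_dvd (by rintro rfl; exact hm (dvd_zero _)) (by rw [hcm]; exact Dvd.intro_left _ rfl), hcm]
      exact Nat.mul_div_cancel _ (Nat.pos_of_ne_zero (by rintro rfl; exact hm (dvd_zero _)))
    apply pgroup_le_sylow_of_le_normalizer P h1 _ (Subgroup.mem_zpowers _)
    rw [Subgroup.zpowers_le]
    exact Subgroup.pow_mem _ hcN m
  obtain ⟨k, hk⟩ := IsPGroup.iff_card.mp P.2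
  have hall := UPrime.centralizes_of_prime_order (P : Subgroup G) hab c
    (fun b hb => (Subgroup.mem_normalizer_iff.mp hcN b).mp hb) m
    (by rw [hk]; exact Nat.Coprime.pow_right _ ((Nat.coprime_comm.mp ((Nat.Prime.coprime_iff_not_dvd hp).mpr hm))))
    (fun b hb => hab _ hcmP b hb)
    (by
      intro u hu huo
      have hup : orderOf u = p := by
        have h1 : orderOf u ∣ p ^ k := by
          rw [← hk]
          have h5 : orderOf (⟨u, hu⟩ : (P : Subgroup G)) ∣ Nat.card (P : Subgroup G) := orderOf_dvd_natCard _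
          rwa [Subgroup.orderOf_mk] at h5
        exact (Nat.prime_dvd_prime_iff_eq huo hp).mp (huo.dvd_of_dvd_pow h1)
      have hpx : p ∣ orderOf x := by
        have h1 : orderOf x ∣ p ^ k := by
          rw [← hk]
          have h5 : orderOf (⟨x, hx⟩ : (P : Subgroup G)) ∣ Nat.card (P : Subgroup G) := orderOf_dvd_natCard _
          rwa [Subgroup.orderOf_mk] at h5
        obtain ⟨j, _, hj⟩ := (Nat.dvd_prime_pow hp).mp h1
        rw [hj]
        apply dvd_pow_self
        rintro rfl
        rw [pow_zero, orderOf_eq_one_iff] at hj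
        exact hx1 hj
      have hux := Cyc.mem_zpowers_of_orderOf_dvd' (P : Subgroup G) hcyc hu hx (by rw [hup]; exact hpx)
      obtain ⟨j, rfl⟩ := Subgroup.mem_zpowers_iff.mp hux
      exact (Commute.zpow_right (show Commute c x from hc) j))
  rw [Subgroup.mem_centralizer_iff]
  intro b hb
  exact (hall b hb).symm

end Cfsg.Agent.Lib.Helper1.CycSyl
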