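import Mathlib

set_option autoImplicit false

namespace Cfsg.Agent.Lib.Helper1.FrobCount

/-- number of solutions of `x ^ n = c`. -/
noncomputable def cnt (G : Type*) [Group G] (n : ℕ) (c : G) : ℕ := Nat.card {x : G // x ^ n = c}

variable {G : Type*} [Group G]

theorem index_centralizer_eq (g : G) :
    (Subgroup.centralizer {g}).index = Nat.card {x : G // IsConj g x} := by
  have h1 : (Subgroup.centralizer {g}).index = (MulAction.stabilizer (ConjAct G) g).index := by
    rw [Subgroup.centralizer_eq_comap_stabilizer]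
    exact Subgroup.index_comap_of_surjective _ (ConjAct.toConjAct (G := G)).surjective
  rw [h1, MulAction.index_stabilizer]
  have : MulAction.orbit (ConjAct G) g = {x | IsConj g x} := by
    ext x
    rw [ConjAct.mem_orbit_conjAct, Set.mem_ofPred_eq, isConj_comm]
  rw [this]
  rfl

theorem cnt_conj (n : ℕ) (c g : G) : cnt G n (g * c * g⁻¹) = cnt G n c := by
  unfold cnt
  apply Nat.card_congr
  refine Equiv.subtypeEquiv (MulAut.conj g⁻¹).toEquiv ?_
  intro x
  show x ^ n = g * c * g⁻¹ ↔ (MulAut.conj g⁻¹ x) ^ n = c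
  rw [← map_pow, MulAut.conj_apply, inv_inv]
  constructor
  · intro h; rw [h]; group
  · intro h; rw [← h]; group

theorem card_eq_sum_cnt [Finite G] (n : ℕ) (Y : Finset G) :
    Nat.card {x : G // x ^ n ∈ Y} = ∑ y ∈ Y, cnt G n y := by
  classical
  haveI := Fintype.ofFinite G
  rw [Nat.card_eq_fintype_card, Fintype.card_subtype]
  have hmaps : Set.MapsTo (fun x : G => x ^ n) (Finset.univ.filter (fun x : G => x ^ n ∈ Y)) Y := by
    intro x hx
    simpa using hx
  rw [Finset.card_eq_sum_card_fiberwise hmaps]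
  apply Finset.sum_congr rfl
  intro y hy
  unfold cnt
  rw [Nat.card_eq_fintype_card, Fintype.card_subtype, Finset.filter_filter]
  congr 1
  ext x
  simp only [Finset.mem_filter, Finset.mem_univ, true_and]
  constructor
  · rintro ⟨_, h⟩; exact h
  · intro h; exact ⟨h ▸ hy, h⟩

theorem dvd_sum_of_class [Finite G] (d : ℕ) (F : G → ℕ) (hF : ∀ g y, F (g * y * g⁻¹) = F y)
    (Y : Finset G) (hY : ∀ g, ∀ y ∈ Y, g * y * g⁻¹ ∈ Y)
    (h : ∀ y ∈ Y, d ∣ (Subgroup.centralizer {y}).index * F y) : d ∣ ∑ y ∈ Y, F y := by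
  classical
  haveI := Fintype.ofFinite G
  haveI := Fintype.ofFinite (ConjClasses G)
  rw [← Finset.sum_fiberwise Y (ConjClasses.mk : G → ConjClasses G) F]
  apply Finset.dvd_sum
  intro D _
  rcases (Y.filter (fun i => ConjClasses.mk i = D)).eq_empty_or_nonempty with he | ⟨y0, hy0⟩
  · rw [he]; simp
  · rw [Finset.mem_filter] at hy0
    obtain ⟨hy0Y, hy0D⟩ := hy0
    have hconst : ∀ x ∈ Y.filter (fun i => ConjClasses.mk i = D), F x = F y0 := by
      intro x hx
      rw [Finset.mem_filter, ← hy0D, ConjClasses.mk_eq_mk_iff_isConj, isConj_comm, isConj_iff] at hx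
      obtain ⟨c, hc⟩ := hx.2
      rw [← hc, hF]
    rw [Finset.sum_const_nat hconst]
    have hcard : (Y.filter (fun i => ConjClasses.mk i = D)).card = (Subgroup.centralizer {y0}).index := by
      rw [index_centralizer_eq, Nat.card_eq_fintype_card, Fintype.card_subtype]
      congr 1
      ext x
      simp only [Finset.mem_filter, Finset.mem_univ, true_and]
      rw [← hy0D, ConjClasses.mk_eq_mk_iff_isConj, isConj_comm]
      constructor
      · rintro ⟨_, h⟩; exact h
      · intro h
        refine ⟨?_, h⟩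
        rw [isConj_iff] at h
        obtain ⟨c, hc⟩ := h
        rw [← hc]
        exact hY c y0 hy0Y
    rw [hcard]
    exact h y0 hy0Y

theorem orderOf_of_pow_eq {p : ℕ} (hp : p.Prime) : ∀ (e : ℕ) (x c : G), x ^ (p ^ e) = c →
    p ∣ orderOf c → orderOf x = p ^ e * orderOf c := by
  intro e
  induction e with
  | zero => intro x c h _; simp at h; simp [h]
  | succ e ih =>
    intro x c h hpc
    rw [pow_succ, pow_mul] at h
    have h1 : orderOf (x ^ p ^ e) = p * orderOf c := by
      have h2 := orderOf_pow' (x ^ p ^ e) hp.ne_zero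
      rw [h] at h2
      by_cases hd : p ∣ orderOf (x ^ p ^ e)
      · rw [Nat.gcd_eq_right hd] at h2
        rw [h2, Nat.mul_div_cancel' hd]
      · exfalso
        have : (orderOf (x ^ p ^ e)).gcd p = 1 := by
          rw [Nat.gcd_comm]
          exact (Nat.Prime.coprime_iff_not_dvd hp).mpr hd
        rw [this, Nat.div_one] at h2
        exact hd (h2 ▸ hpc)
    rw [ih x _ rfl (h1 ▸ dvd_mul_right _ _), h1, pow_succ, mul_assoc]

theorem dvd_cnt_of_dvd_orderOf [Finite G] {p : ℕ} (hp : p.Prime) (e : ℕ) (c : G)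
    (hpc : p ∣ orderOf c) : p ^ e ∣ cnt G (p ^ e) c := by
  classical
  haveI := Fintype.ofFinite G
  unfold cnt
  rw [Nat.card_eq_fintype_card, Fintype.card_subtype,
    Finset.card_eq_sum_card_image (fun x : G => Subgroup.zpowers x)]
  apply Finset.dvd_sum
  intro H hH
  rw [Finset.mem_image] at hH
  obtain ⟨x0, hx0, rfl⟩ := hH
  simp only [Finset.mem_filter, Finset.mem_univ, true_and] at hx0
  have hm : 0 < orderOf c := orderOf_pos c
  have ho : orderOf x0 = p ^ e * orderOf c := orderOf_of_pow_eq hp e x0 c hx0 hpc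
  have hset : (↑((Finset.univ.filter (fun x : G => x ^ p ^ e = c)).filter
      (fun a => Subgroup.zpowers a = Subgroup.zpowers x0)) : Set G) =
      (fun k => x0 * k) '' (Subgroup.zpowers (x0 ^ orderOf c) : Set G) := by
    ext x
    simp only [Finset.coe_filter, Finset.mem_filter, Finset.mem_univ, true_and, Set.mem_setOf_eq,
      Set.mem_image, SetLike.mem_coe]
    constructor
    · rintro ⟨hx, hz⟩
      have hxm : x ∈ Subgroup.zpowers x0 := hz ▸ Subgroup.mem_zpowers x
      obtain ⟨j, rfl⟩ := hxm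
      have h1 : c ^ (j - 1) = 1 := by
        have : (x0 ^ j) ^ p ^ e = c ^ j := by
          rw [← hx0, ← zpow_natCast, ← zpow_natCast, ← zpow_mul, ← zpow_mul, mul_comm]
        rw [zpow_sub, zpow_one, ← this, hx, mul_inv_cancel]
      rw [← orderOf_dvd_iff_zpow_eq_one] at h1
      obtain ⟨i, hi⟩ := h1
      refine ⟨(x0 ^ orderOf c) ^ i, ⟨i, rfl⟩, ?_⟩
      rw [← zpow_natCast, ← zpow_mul, ← hi, ← zpow_one_add]
      congr 1
      ring
    · rintro ⟨k, ⟨i, rfl⟩, rfl⟩
      simp only []
      have hxe : x0 * (x0 ^ orderOf c) ^ i = x0 ^ (1 + (orderOf c : ℤ) * i) := by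
        rw [← zpow_natCast, ← zpow_mul, zpow_one_add]
      have h1 : (x0 * (x0 ^ orderOf c) ^ i) ^ p ^ e = c := by
        rw [hxe, ← zpow_natCast, ← zpow_mul, mul_comm, zpow_mul, zpow_natCast, hx0, zpow_one_add,
          zpow_mul, zpow_natCast, pow_orderOf_eq_one, one_zpow, mul_one]
      refine ⟨h1, ?_⟩
      apply Subgroup.eq_of_le_of_card_ge
      · rw [Subgroup.zpowers_le, hxe]
        exact ⟨_, rfl⟩
      · rw [Nat.card_zpowers, Nat.card_zpowers, ho, orderOf_of_pow_eq hp e _ c h1 hpc]
  rw [← Set.ncard_coe_finset, hset, Set.ncard_image_of_injective _ (mul_right_injective x0)]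
  have : (Subgroup.zpowers (x0 ^ orderOf c) : Set G).ncard = p ^ e := by
    have h1 : (Subgroup.zpowers (x0 ^ orderOf c) : Set G).ncard = Nat.card (Subgroup.zpowers (x0 ^ orderOf c)) := rfl
    rw [h1, Nat.card_zpowers, orderOf_pow_of_dvd hm.ne' (ho ▸ dvd_mul_left _ _), ho,
      Nat.mul_div_cancel _ hm]
  rw [this]

theorem self_mem_centralizer (c : G) : c ∈ Subgroup.centralizer ({c} : Set G) := by
  rw [Subgroup.mem_centralizer_iff]
  intro h hh
  rw [Set.mem_singleton_iff] at hh
  rw [hh]

theorem cnt_centralizer (n : ℕ) (c : G) :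
    cnt (Subgroup.centralizer ({c} : Set G)) n ⟨c, self_mem_centralizer c⟩ = cnt G n c := by
  unfold cnt
  apply Nat.card_congr
  refine ⟨fun x => ⟨x.1.1, congrArg Subtype.val x.2⟩, fun x => ⟨⟨x.1, ?_⟩, Subtype.ext x.2⟩, ?_, ?_⟩
  · rw [Subgroup.mem_centralizer_iff]
    intro h hh
    rw [Set.mem_singleton_iff] at hh
    rw [hh]
    have h2 := x.2
    calc c * x.1 = x.1 ^ n * x.1 := by rw [h2]
      _ = x.1 * x.1 ^ n := pow_mul_comm' x.1 n
      _ = x.1 * c := by rw [h2]
  · intro x; rfl
  · intro x; rfl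

theorem cnt_translate {n : ℕ} (c : G) (hc : c ∈ Subgroup.center G) (hcop : n.Coprime (orderOf c)) :
    cnt G n c = cnt G n 1 := by
  obtain ⟨m, hm⟩ := exists_pow_eq_self_of_coprime hcop
  unfold cnt
  apply Nat.card_congr
  symm
  refine Equiv.subtypeEquiv (Equiv.mulRight (c ^ m)) ?_
  intro x
  show x ^ n = 1 ↔ (x * c ^ m) ^ n = c
  have hcomm : Commute x (c ^ m) := by
    apply Commute.pow_right
    exact (Subgroup.mem_center_iff.mp hc x)
  rw [hcomm.mul_pow, ← pow_mul, mul_comm m n, pow_mul, hm, mul_eq_right]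

theorem gcd_dvd_aux (a h k : ℕ) : Nat.gcd a (h * k) ∣ h * Nat.gcd a k := by
  rw [← Nat.gcd_mul_left]
  exact Nat.dvd_gcd (dvd_mul_of_dvd_right (Nat.gcd_dvd_left _ _) h) (Nat.gcd_dvd_right _ _)

theorem key_sum [Finite G] (a : ℕ) (Y : Finset G) (hY : ∀ g, ∀ y ∈ Y, g * y * g⁻¹ ∈ Y)
    (hQ : ∀ y ∈ Y, Nat.gcd a (Nat.card (Subgroup.centralizer ({y} : Set G))) ∣ cnt G a y) :
    Nat.gcd a (Nat.card G) ∣ ∑ y ∈ Y, cnt G a y := by
  apply dvd_sum_of_class _ _ (fun g y => cnt_conj a y g) Y hY
  intro y hy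
  refine dvd_trans ?_ (Nat.mul_dvd_mul_left _ (hQ y hy))
  rw [← Subgroup.card_mul_index (Subgroup.centralizer ({y} : Set G)), mul_comm]
  exact gcd_dvd_aux _ _ _

theorem centralizer_eq_top_iff (c : G) :
    Subgroup.centralizer ({c} : Set G) = ⊤ ↔ c ∈ Subgroup.center G := by
  rw [Subgroup.centralizer_eq_top_iff_subset, Set.singleton_subset_iff, SetLike.mem_coe]

theorem conj_mem_center_iff (g y : G) : g * y * g⁻¹ ∈ Subgroup.center G ↔ y ∈ Subgroup.center G := by
  constructor
  · intro h
    have := (inferInstance : (Subgroup.center G).Normal).conj_mem _ h g⁻¹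
    simpa [mul_assoc] using this
  · intro h
    exact (inferInstance : (Subgroup.center G).Normal).conj_mem _ h g

/-- the `p'`-part of the centre. -/
def centerP' (G : Type*) [Group G] (p : ℕ) (hp : p.Prime) : Subgroup G where
  carrier := {y | y ∈ Subgroup.center G ∧ ¬ p ∣ orderOf y}
  mul_mem' := by
    rintro a b ⟨ha, ha'⟩ ⟨hb, hb'⟩
    refine ⟨Subgroup.mul_mem _ ha hb, ?_⟩
    intro h
    have hc : Commute a b := (Subgroup.mem_center_iff.mp hb a)
    have h1 := h.trans (hc.orderOf_mul_dvd_lcm.trans (Nat.lcm_dvd_mul _ _))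
    rcases (Nat.Prime.dvd_mul hp).mp h1 with h2 | h2
    · exact ha' h2
    · exact hb' h2
  one_mem' := ⟨Subgroup.one_mem _, by rw [orderOf_one]; exact hp.one_lt.ne' ∘ Nat.dvd_one.mp⟩
  inv_mem' := by
    rintro a ⟨ha, ha'⟩
    exact ⟨Subgroup.inv_mem _ ha, by rw [orderOf_inv]; exact ha'⟩

theorem card_centerP'_coprime [Finite G] (p : ℕ) (hp : p.Prime) :
    (Nat.card (centerP' G p hp)).Coprime p := by
  haveI := Fact.mk hp
  rw [Nat.coprime_comm, Nat.Prime.coprime_iff_not_dvd hp]
  intro hd
  obtain ⟨x, hx⟩ := exists_prime_orderOf_dvd_card' p hd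
  rw [← Subgroup.orderOf_coe] at hx
  exact x.2.2 (by rw [hx])

theorem main_aux [Finite G]
    (IH : ∀ H : Subgroup G, H ≠ ⊤ → ∀ (n : ℕ) (c : H),
      Nat.gcd n (Nat.card (Subgroup.centralizer ({c} : Set H))) ∣ cnt H n c) :
    ∀ (n : ℕ) (c : G), Nat.gcd n (Nat.card (Subgroup.centralizer ({c} : Set G))) ∣ cnt G n c := by
  classical
  haveI := Fintype.ofFinite G
  -- Step A: non central
  have hA : ∀ (n : ℕ) (c : G), c ∉ Subgroup.center G →
      Nat.gcd n (Nat.card (Subgroup.centralizer ({c} : Set G))) ∣ cnt G n c := by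
    intro n c hc
    have hne : Subgroup.centralizer ({c} : Set G) ≠ ⊤ := by
      rw [Ne, centralizer_eq_top_iff]; exact hc
    have h1 := IH _ hne n ⟨c, self_mem_centralizer c⟩
    rw [cnt_centralizer] at h1
    have h2 : Subgroup.centralizer
        ({(⟨c, self_mem_centralizer c⟩ : Subgroup.centralizer ({c} : Set G))} : Set _) = ⊤ := by
      rw [eq_top_iff]
      intro x _
      rw [Subgroup.mem_centralizer_iff]
      intro h hh
      rw [Set.mem_singleton_iff] at hh
      rw [hh]
      apply Subtype.ext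
      exact (Subgroup.mem_centralizer_iff.mp x.2 c rfl)
    rw [h2, Subgroup.card_top] at h1
    exact h1
  have hcen : ∀ c : G, c ∈ Subgroup.center G →
      Nat.card (Subgroup.centralizer ({c} : Set G)) = Nat.card G := by
    intro c hc
    rw [(centralizer_eq_top_iff c).mpr hc, Subgroup.card_top]
  intro n
  induction n using Nat.recOnPrimeCoprime with
  | zero =>
    intro c
    by_cases hc : c = 1
    · subst hc
      rw [hcen 1 (Subgroup.one_mem _), Nat.gcd_zero_left]
      unfold cnt
      have : Nat.card {x : G // x ^ 0 = 1} = Nat.card G := by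
        apply Nat.card_congr
        exact Equiv.subtypeUnivEquiv (fun x => pow_zero x)
      rw [this]
    · unfold cnt
      have : IsEmpty {x : G // x ^ 0 = c} := ⟨fun x => hc (by rw [← x.2, pow_zero])⟩
      have h0 : Nat.card {x : G // x ^ 0 = c} = 0 := Nat.card_of_isEmpty
      rw [h0]
      exact dvd_zero _
  | prime_pow p e hp =>
    have hsum := card_eq_sum_cnt (G := G) (p ^ e) Finset.univ
    have hcardG : Nat.card {x : G // x ^ (p ^ e) ∈ (Finset.univ : Finset G)} = Nat.card G := by
      apply Nat.card_congr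
      exact Equiv.subtypeUnivEquiv (fun x => Finset.mem_univ _)
    rw [hcardG, ← Finset.sum_filter_add_sum_filter_not Finset.univ (fun y => y ∈ Subgroup.center G),
      ← Finset.sum_filter_add_sum_filter_not (Finset.univ.filter (fun y => y ∈ Subgroup.center G))
        (fun y => p ∣ orderOf y)] at hsum
    have h1 : Nat.gcd (p ^ e) (Nat.card G) ∣
        ∑ y ∈ Finset.univ.filter (fun y => ¬ y ∈ Subgroup.center G), cnt G (p ^ e) y := by
      apply key_sum
      · intro g y hy
        simp only [Finset.mem_filter, Finset.mem_univ, true_and] at hy ⊢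
        rw [conj_mem_center_iff]; exact hy
      · intro y hy
        simp only [Finset.mem_filter, Finset.mem_univ, true_and] at hy
        exact hA _ y hy
    have h2 : Nat.gcd (p ^ e) (Nat.card G) ∣
        ∑ y ∈ (Finset.univ.filter (fun y => y ∈ Subgroup.center G)).filter (fun y => p ∣ orderOf y),
          cnt G (p ^ e) y := by
      apply Finset.dvd_sum
      intro y hy
      simp only [Finset.mem_filter, Finset.mem_univ, true_and] at hy
      exact (Nat.gcd_dvd_left _ _).trans (dvd_cnt_of_dvd_orderOf hp e y hy.2)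
    have h3 : ∑ y ∈ (Finset.univ.filter (fun y => y ∈ Subgroup.center G)).filter (fun y => ¬ p ∣ orderOf y),
          cnt G (p ^ e) y = Nat.card (centerP' G p hp) * cnt G (p ^ e) 1 := by
      rw [Finset.sum_const_nat (m := cnt G (p ^ e) 1)]
      · congr 1
        rw [Nat.card_eq_fintype_card, ← Fintype.card_coe]
        apply Fintype.card_congr
        refine Equiv.subtypeEquivRight ?_
        intro y
        simp only [Finset.mem_filter, Finset.mem_univ, true_and]
        rfl
      · intro y hy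
        simp only [Finset.mem_filter, Finset.mem_univ, true_and] at hy
        apply cnt_translate y hy.1
        exact Nat.Coprime.pow_left e ((Nat.Prime.coprime_iff_not_dvd hp).mpr hy.2)
    have h4 : Nat.gcd (p ^ e) (Nat.card G) ∣ Nat.card (centerP' G p hp) * cnt G (p ^ e) 1 := by
      rw [← h3]
      have h5 := (Nat.gcd_dvd_right (p ^ e) (Nat.card G)).trans (dvd_of_eq hsum)
      have h6 := (Nat.dvd_add_left h1).mp h5
      exact (Nat.dvd_add_right h2).mp h6
    have h5 : Nat.gcd (p ^ e) (Nat.card G) ∣ cnt G (p ^ e) 1 := by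
      refine Nat.Coprime.dvd_of_dvd_mul_left ?_ h4
      apply Nat.Coprime.coprime_dvd_left (Nat.gcd_dvd_left _ _)
      exact Nat.Coprime.pow_left e (card_centerP'_coprime p hp).symm
    intro c
    by_cases hc : c ∈ Subgroup.center G
    · rw [hcen c hc]
      by_cases hpc : p ∣ orderOf c
      · exact (Nat.gcd_dvd_left _ _).trans (dvd_cnt_of_dvd_orderOf hp e c hpc)
      · rw [cnt_translate c hc (Nat.Coprime.pow_left e ((Nat.Prime.coprime_iff_not_dvd hp).mpr hpc))]
        exact h5
    · exact hA _ c hc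
  | coprime a b _ _ hab iha ihb =>
    intro c
    by_cases hc : c ∈ Subgroup.center G
    · rw [hcen c hc]
      have key : ∀ a b : ℕ, (∀ (c : G), Nat.gcd a (Nat.card (Subgroup.centralizer ({c} : Set G))) ∣ cnt G a c) →
          Nat.gcd a (Nat.card G) ∣ cnt G (a * b) c := by
        intro a b iha
        have h1 := card_eq_sum_cnt (G := G) a (Finset.univ.filter (fun y => y ^ b = c))
        have h2 : Nat.card {x : G // x ^ a ∈ Finset.univ.filter (fun y => y ^ b = c)} = cnt G (a * b) c := by
          unfold cnt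
          apply Nat.card_congr
          refine Equiv.subtypeEquivRight ?_
          intro x
          simp only [Finset.mem_filter, Finset.mem_univ, true_and]
          rw [pow_mul]
        rw [← h2, h1]
        apply key_sum
        · intro g y hy
          simp only [Finset.mem_filter, Finset.mem_univ, true_and] at hy ⊢
          rw [conj_pow, hy]
          have := Subgroup.mem_center_iff.mp hc g
          rw [this, mul_inv_cancel_right]
        · intro y _
          exact iha y
      have h1 := key a b iha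
      have h2 := key b a ihb
      rw [mul_comm b a] at h2
      rw [Nat.gcd_comm, Nat.Coprime.gcd_mul _ hab, Nat.gcd_comm, Nat.gcd_comm (Nat.card G) b]
      refine Nat.Coprime.mul_dvd_of_dvd_of_dvd ?_ h1 h2
      exact Nat.Coprime.coprime_dvd_left (Nat.gcd_dvd_left _ _)
        (Nat.Coprime.coprime_dvd_right (Nat.gcd_dvd_left _ _) hab)
    · exact hA _ c hc

universe u

theorem main_ind : ∀ (N : ℕ) (G : Type u) [Group G] [Finite G], Nat.card G = N → ∀ (n : ℕ) (c : G),
    Nat.gcd n (Nat.card (Subgroup.centralizer ({c} : Set G))) ∣ cnt G n c := by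
  intro N
  induction N using Nat.strong_induction_on with
  | _ N ih =>
    intro G _ _ hN
    apply main_aux
    intro H hH n c
    exact ih (Nat.card H) (by
      rw [← hN]
      exact lt_of_le_of_ne (Subgroup.card_le_card_group H) (fun h => hH (Subgroup.eq_top_of_card_eq H h)))
      H rfl n c

/-- **Frobenius–Hall**: the number of solutions of `x ^ n = c` is a multiple of `gcd (n, |C_G(c)|)`. -/
theorem main {G : Type u} [Group G] [Finite G] (n : ℕ) (c : G) :
    Nat.gcd n (Nat.card (Subgroup.centralizer ({c} : Set G))) ∣ cnt G n c :=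
  main_ind _ G rfl n c

theorem main_sum {G : Type u} [Group G] [Finite G] (a : ℕ) (Y : Finset G)
    (hY : ∀ g, ∀ y ∈ Y, g * y * g⁻¹ ∈ Y) :
    Nat.gcd a (Nat.card G) ∣ Nat.card {x : G // x ^ a ∈ Y} := by
  rw [card_eq_sum_cnt]
  exact key_sum a Y hY (fun y _ => main a y)

theorem coprime_div_gcd_pow {g n : ℕ} (hg : g ≠ 0) : (g / Nat.gcd g (n ^ g)).Coprime n := by
  rw [Nat.coprime_iff_gcd_eq_one, Nat.eq_one_iff_not_exists_prime_dvd]
  intro q hq hqd
  have hqK : q ∣ g / Nat.gcd g (n ^ g) := hqd.trans (Nat.gcd_dvd_left _ _)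
  have hqn : q ∣ n := hqd.trans (Nat.gcd_dvd_right _ _)
  have hq1 : q ^ g.factorization q ∣ g := Nat.ordProj_dvd g q
  have hq2 : q ^ g.factorization q ∣ n ^ g :=
    (pow_dvd_pow q (le_of_lt (Nat.factorization_lt q hg))).trans (pow_dvd_pow_of_dvd hqn g)
  have hq3 : q ^ g.factorization q ∣ Nat.gcd g (n ^ g) := Nat.dvd_gcd hq1 hq2
  have hq4 : Nat.gcd g (n ^ g) * q ∣ g := Nat.mul_dvd_of_dvd_div (Nat.gcd_dvd_left _ _) hqK
  apply Nat.pow_succ_factorization_not_dvd hg hq
  rw [pow_succ]
  exact (Nat.mul_dvd_mul_right hq3 q).trans hq4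

theorem dvd_orderOf_pow_iff {G : Type*} [Group G] {n K : ℕ} (hK : K ≠ 0) (hc : K.Coprime n) (x : G) :
    n ∣ orderOf (x ^ K) ↔ n ∣ orderOf x := by
  constructor
  · intro h
    exact h.trans (orderOf_pow_dvd K)
  · intro h
    rw [orderOf_pow' x hK]
    apply Nat.dvd_div_of_mul_dvd
    refine Nat.Coprime.mul_dvd_of_dvd_of_dvd ?_ (Nat.gcd_dvd_left _ _) h
    exact Nat.Coprime.coprime_dvd_left (Nat.gcd_dvd_right _ _) hc

end Cfsg.Agent.Lib.Helper1.FrobCount

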