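import Mathlib
import Cfsg.Prelude.Def_IsolatedElements
import Cfsg.Agent.Lib.Helper1.HallRel
import Cfsg.Agent.Lib.Helper1.Frobenius

set_option autoImplicit false
open scoped Pointwise

namespace Cfsg.Agent.Lib.Helper1.Isolated

open Cfsg.Agent.Lib.Helper1

variable {G : Type*} [Group G]

/-- an isolated element is central in every `p`-subgroup containing it -/
theorem commute_of_mem [Finite G] {p : ℕ} [Fact p.Prime] {x : G} (hiso : Cfsg.IsIsolated x)
    (R : Subgroup G) (hR : IsPGroup p R) (hx : x ∈ R) : ∀ r ∈ R, r * x = x * r := by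
  by_contra hcon
  push Not at hcon
  obtain ⟨r₀, hr₀, hr₀x⟩ := hcon
  have hlt : R ⊓ Subgroup.centralizer ({x} : Set G) < R := by
    apply lt_of_le_of_ne inf_le_left
    intro h
    have : r₀ ∈ R ⊓ Subgroup.centralizer ({x} : Set G) := by rw [h]; exact hr₀
    exact hr₀x (Subgroup.mem_centralizer_singleton_iff.mp this.2)
  have h2 := lt_inf_normalizer_of_lt hR hlt
  obtain ⟨r, hr, hrn⟩ := SetLike.exists_of_lt h2
  obtain ⟨hrR, hrN⟩ := Subgroup.mem_inf.mp hr
  apply hrn
  refine Subgroup.mem_inf.mpr ⟨hrR, ?_⟩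
  have hxC : x ∈ R ⊓ Subgroup.centralizer ({x} : Set G) :=
    Subgroup.mem_inf.mpr ⟨hx, Subgroup.mem_centralizer_singleton_iff.mpr rfl⟩
  have h3 := (Subgroup.mem_normalizer_iff.mp hrN x).mp hxC
  have h4 := Subgroup.mem_centralizer_singleton_iff.mp h3.2
  have h5 := hiso r h4.symm
  rw [Subgroup.mem_centralizer_singleton_iff]
  calc r * x = (r * x * r⁻¹) * r := by group
    _ = x * r := by rw [h5]

/-- two conjugates `x`, `g x g⁻¹` of an isolated `p`-element lying in a subgroup `L` are conjugate in `L` -/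
theorem conj_in [Finite G] {p : ℕ} [Fact p.Prime] {x : G} (hx : ∃ k : ℕ, orderOf x = p ^ k)
    (hiso : Cfsg.IsIsolated x) (L : Subgroup G) (hxL : x ∈ L) (g : G) (hg : g * x * g⁻¹ ∈ L) :
    ∃ l ∈ L, g * x * g⁻¹ = l * x * l⁻¹ := by
  obtain ⟨k, hk⟩ := hx
  have hxp : IsPGroup p (Subgroup.zpowers x) := IsPGroup.of_card (n := k) (by rw [Nat.card_zpowers, hk])
  have hxL' : Subgroup.zpowers x ≤ L := by rw [Subgroup.zpowers_le]; exact hxL
  have h1 : IsPGroup p ((Subgroup.zpowers x).subgroupOf L) :=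
    hxp.of_equiv (Subgroup.subgroupOfEquivOfLe hxL').symm
  obtain ⟨R, hR⟩ := h1.exists_le_sylow
  obtain ⟨S, hS⟩ : ∃ S, S = (R : Subgroup L).map L.subtype := ⟨_, rfl⟩
  have hSL : S ≤ L := by rw [hS]; exact Subgroup.map_subtype_le _
  have hSc : Nat.card S = p ^ (Nat.card L).factorization p := by
    rw [hS, Subgroup.card_map_of_injective L.subtype_injective, R.card_eq_multiplicity]
  have hxS : x ∈ S := by
    have : Subgroup.zpowers x ≤ S := by
      rw [hS, ← Subgroup.map_subgroupOf_eq_of_le hxL']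
      exact Subgroup.map_mono hR
    exact this (Subgroup.mem_zpowers x)
  have hSp : IsPGroup p S := IsPGroup.of_card hSc
  have hgp : IsPGroup p (Subgroup.zpowers (g * x * g⁻¹)) := by
    have h3 := hxp.map (MulAut.conj g).toMonoidHom
    rw [MonoidHom.map_zpowers] at h3
    exact h3
  obtain ⟨l, hl, hl2⟩ := sylow_dominance_in L S (Subgroup.zpowers (g * x * g⁻¹)) hSL
    (by rw [Subgroup.zpowers_le]; exact hg) hSc hgp
  have h4 := hl2 (Subgroup.mem_zpowers _)
  rw [mem_conj_smul] at h4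
  have h5 := commute_of_mem hiso S hSp hxS _ h4
  have e : l⁻¹ * (g * x * g⁻¹) * l = (l⁻¹ * g) * x * (l⁻¹ * g)⁻¹ := by group
  rw [e] at h5
  have h6 := hiso (l⁻¹ * g) h5.symm
  refine ⟨l, hl, ?_⟩
  calc g * x * g⁻¹ = l * ((l⁻¹ * g) * x * (l⁻¹ * g)⁻¹) * l⁻¹ := by group
    _ = l * x * l⁻¹ := by rw [h6]

end Cfsg.Agent.Lib.Helper1.Isolated
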