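import Cfsg.Agent.Lib.Helper1.NilMax
import Cfsg.Agent.Lib.Helper6.Nil
import Cfsg.Prelude.Def_SolvableStructure

set_option autoImplicit false
open Pointwise

namespace Cfsg.Agent.Lib.Helper1

open Cfsg.Agent.Lib.Helper6.Nil

theorem nil_of_proper {G : Type*} [Group G] [Finite G] {p : ℕ}
    (h : ∀ M : Subgroup G, IsCoatom M → p ∣ Nat.card M → Group.IsNilpotent M)
    (L : Subgroup G) (hL : L ≠ ⊤) (hp : p ∣ Nat.card L) : Group.IsNilpotent L := by
  obtain ⟨M, hM, hLM⟩ := (eq_top_or_exists_le_coatom L).resolve_left hL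
  exact nilpotent_of_le hLM (h M hM (hp.trans (Subgroup.card_dvd_of_le hLM)))

theorem nilpotent_of_top {G : Type*} [Group G] (h : Group.IsNilpotent (⊤ : Subgroup G)) :
    Group.IsNilpotent G := Group.nilpotent_of_mulEquiv Subgroup.topEquiv

theorem centralizes_of_nilpotent {G : Type*} [Group G] [Finite G] {p : ℕ} [hp : Fact p.Prime]
    {L Q A : Subgroup G} (hL : Group.IsNilpotent L) (hQL : Q ≤ L) (hAL : A ≤ L) (hQ : IsPGroup p Q)
    (hA : (Nat.card A).Coprime p) (hAQ : A ≤ Subgroup.normalizer (Q : Set G)) :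
    A ≤ Subgroup.centralizer (Q : Set G) := by
  intro a ha
  refine (pn_subgroup_iff L).mp (pn_of_nilpotent hL) Q hQL hQ a (hAL ha) (hAQ ha) ?_
  exact Nat.Coprime.coprime_dvd_left (by
    have := orderOf_dvd_natCard (⟨a, ha⟩ : A)
    rwa [Subgroup.orderOf_mk] at this) hA

theorem forward_normal {G : Type*} [Group G] [Finite G] (p : ℕ) [hp : Fact p.Prime] (hpG : p ∣ Nat.card G)
    (h : ∀ M : Subgroup G, IsCoatom M → p ∣ Nat.card M → Group.IsNilpotent M)
    (hnil : ¬ Group.IsNilpotent G) (P : Sylow p G) (hPn : (P : Subgroup G).Normal) :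
    Cfsg.IsMinimalNonNilpotent G ∨
        ∃ Z K : Subgroup G, Z.Normal ∧ K.Normal ∧ Z ⊓ K = ⊥ ∧ Z ⊔ K = ⊤ ∧ Nat.card Z = p ∧
          Cfsg.IsMinimalNonNilpotent K ∧ ¬ p ∣ Nat.card K := by
  have hE := nil_of_proper h
  obtain ⟨H, hH⟩ := Subgroup.exists_right_complement'_of_coprime P.card_coprime_index
  have hcard := hH.card_mul_card
  have hinf : (P : Subgroup G) ⊓ H = ⊥ := hH.disjoint.eq_bot
  have hsup : (P : Subgroup G) ⊔ H = ⊤ := hH.sup_eq_top
  have hPp := P.isPGroup'
  have hpP : p ∣ Nat.card (P : Subgroup G) := by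
    rw [P.card_eq_multiplicity]
    exact dvd_pow_self p (hp.out.factorization_pos_of_dvd Nat.card_pos.ne' hpG).ne'
  have hHidx : Nat.card H = (P : Subgroup G).index :=
    Nat.eq_of_mul_eq_mul_left Nat.card_pos (hcard.trans (P : Subgroup G).card_mul_index.symm)
  have hHp : (Nat.card H).Coprime p := by
    rw [hHidx]; exact ((Nat.Prime.coprime_iff_not_dvd hp.out).mpr P.not_dvd_index).symm
  have hHP : (Nat.card H).Coprime (Nat.card (P : Subgroup G)) := by
    rw [hHidx]; exact P.card_coprime_index.symm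
  have hnorm : ∀ A : Subgroup G, A ≤ Subgroup.normalizer ((P : Subgroup G) : Set G) := by
    intro A; rw [Subgroup.normalizer_eq_top_iff.mpr hPn]; exact le_top
  -- proper subgroups of H
  have hprop : ∀ H₁ : Subgroup G, H₁ ≤ H → H₁ ≠ H → Group.IsNilpotent ↥(H₁ ⊔ (P : Subgroup G) : Subgroup G) := by
    intro H₁ h1 h2
    apply hE
    · intro htop
      have h3 := card_sup_of_coprime H₁ (P : Subgroup G) (hnorm _)
        (Nat.Coprime.coprime_dvd_left (Subgroup.card_dvd_of_le h1) hHP)
      rw [htop, Subgroup.card_top, ← hcard, mul_comm] at h3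
      have h4 : Nat.card H = Nat.card H₁ := Nat.eq_of_mul_eq_mul_right Nat.card_pos h3
      exact h2 (Subgroup.eq_of_le_of_card_ge h1 h4.le)
    · exact hpP.trans (Subgroup.card_dvd_of_le le_sup_right)
  have hprop2 : ∀ H₁ : Subgroup G, H₁ ≤ H → H₁ ≠ H →
      H₁ ≤ Subgroup.centralizer ((P : Subgroup G) : Set G) := by
    intro H₁ h1 h2
    exact centralizes_of_nilpotent (hprop H₁ h1 h2) le_sup_right le_sup_left hPp
      (Nat.Coprime.coprime_dvd_left (Subgroup.card_dvd_of_le h1) hHp) (hnorm _)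
  by_cases hHC : H ≤ Subgroup.centralizer ((P : Subgroup G) : Set G)
  · right
    have hPH : (P : Subgroup G) ≤ Subgroup.centralizer (H : Set G) := Subgroup.le_centralizer_iff.mp hHC
    have hHn : H.Normal := by
      rw [← Subgroup.normalizer_eq_top_iff, eq_top_iff, ← hsup]
      exact sup_le (hPH.trans (Subgroup.centralizer_le_normalizer _)) Subgroup.le_normalizer
    have hHnil : ¬ Group.IsNilpotent H := by
      intro hn
      apply hnil
      apply nilpotent_of_top
      rw [← hsup]
      exact nilpotent_sup hPp.isNilpotent hn (hnorm _)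
        (by
          change (P : Subgroup G) ≤ Subgroup.normalizer (H : Set G)
          rw [Subgroup.normalizer_eq_top_iff.mpr hHn]; exact le_top)
    refine ⟨P, H, hPn, hHn, hinf, hsup, ?_, ⟨hHnil, ?_⟩, ?_⟩
    · obtain ⟨x, hx⟩ := exists_prime_orderOf_dvd_card' (G := (P : Subgroup G)) p hpP
      have hxo : orderOf (x : G) = p := by rw [Subgroup.orderOf_coe]; exact hx
      have hzP : Subgroup.zpowers (x : G) ≤ (P : Subgroup G) := (Subgroup.zpowers_le).mpr x.2
      have hzc : Nat.card (Subgroup.zpowers (x : G)) = p := by rw [Nat.card_zpowers, hxo]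
      by_contra hne
      apply hHnil
      have hHz : H ≤ Subgroup.normalizer ((Subgroup.zpowers (x : G) : Subgroup G) : Set G) :=
        (hHC.trans (Subgroup.centralizer_le hzP)).trans (Subgroup.centralizer_le_normalizer _)
      have h3 := card_sup_of_coprime H (Subgroup.zpowers (x : G)) hHz (by rw [hzc]; exact hHp)
      refine nilpotent_of_le (le_sup_left : H ≤ H ⊔ Subgroup.zpowers (x : G)) (hE _ ?_ ?_)
      · intro htop
        rw [htop, Subgroup.card_top, ← hcard, mul_comm, hzc] at h3
        exact hne (Nat.eq_of_mul_eq_mul_left Nat.card_pos h3)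
      · rw [h3, hzc]; exact Dvd.intro_left _ rfl
    · intro H' hH'
      have h1 : H'.map H.subtype ≠ H := by
        intro e
        apply hH'
        rw [eq_top_iff]
        intro y _
        have : (y : G) ∈ H'.map H.subtype := by rw [e]; exact y.2
        obtain ⟨z, hz, hzy⟩ := this
        rwa [← Subtype.ext hzy]
      have h2 := nilpotent_of_le le_sup_left (hprop _ (Subgroup.map_subtype_le H') h1)
      exact Group.nilpotent_of_mulEquiv (H'.equivMapOfInjective H.subtype H.subtype_injective).symm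
    · intro hd
      exact hp.out.one_lt.ne' (Nat.Coprime.eq_one_of_dvd hHp.symm hd)
  · left
    obtain ⟨a, haH, haC⟩ := SetLike.not_le_iff_exists.mp hHC
    have hHz : Subgroup.zpowers a = H := by
      by_contra hne
      exact haC (hprop2 _ ((Subgroup.zpowers_le).mpr haH) hne (Subgroup.mem_zpowers a))
    have hHnil : Group.IsNilpotent H := by
      rw [← hHz]
      letI : CommGroup (Subgroup.zpowers a) := IsCyclic.commGroup
      infer_instance
    haveI := hPn
    have hq : Group.IsNilpotent (G ⧸ (P : Subgroup G)) := by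
      apply Group.nilpotent_of_surjective ((QuotientGroup.mk' (P : Subgroup G)).comp H.subtype)
      intro y
      obtain ⟨g, rfl⟩ := QuotientGroup.mk'_surjective _ y
      have hg : g ∈ H ⊔ (P : Subgroup G) := by rw [sup_comm, hsup]; trivial
      rw [← SetLike.mem_coe, Subgroup.mul_normal H (P : Subgroup G)] at hg
      obtain ⟨m, hm, k, hk, rfl⟩ := hg
      refine ⟨⟨m, hm⟩, ?_⟩
      change QuotientGroup.mk' (P : Subgroup G) m = QuotientGroup.mk' (P : Subgroup G) (m * k)
      have hk1 : QuotientGroup.mk' (P : Subgroup G) k = 1 := (QuotientGroup.eq_one_iff k).mpr hk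
      rw [map_mul, hk1, mul_one]
    refine ⟨hnil, fun L hL => ?_⟩
    by_cases hpL : p ∣ Nat.card L
    · exact hE L hL hpL
    · apply Subgroup.isNilpotent_of_ker_le_center ((QuotientGroup.mk' (P : Subgroup G)).comp L.subtype)
      intro x hx
      have h1 : (x : G) ∈ (P : Subgroup G) := (QuotientGroup.eq_one_iff (x : G)).mp hx
      have h2 : (orderOf (x : G)).Coprime p := by
        rw [Subgroup.orderOf_coe]
        exact Nat.Coprime.coprime_dvd_left (orderOf_dvd_natCard x)
          ((Nat.Prime.coprime_iff_not_dvd hp.out).mpr hpL).symm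
      have h3 := eq_one_of_coprime_of_mem_pgroup hPp h1 h2
      have h4 : x = 1 := Subtype.ext h3
      rw [h4]; exact Subgroup.one_mem _

theorem forward_nonnormal {G : Type*} [Group G] [Finite G] (p : ℕ) [hp : Fact p.Prime] (hpG : p ∣ Nat.card G)
    (h : ∀ M : Subgroup G, IsCoatom M → p ∣ Nat.card M → Group.IsNilpotent M)
    (hnil : ¬ Group.IsNilpotent G) (P : Sylow p G) (hPn : ¬ (P : Subgroup G).Normal) :
    Cfsg.IsMinimalNonNilpotent G := by
  have hE := nil_of_proper h
  have hPp := P.isPGroup'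
  have hpP : p ∣ Nat.card (P : Subgroup G) := by
    rw [P.card_eq_multiplicity]
    exact dvd_pow_self p (hp.out.factorization_pos_of_dvd Nat.card_pos.ne' hpG).ne'
  have hF : FrobHyp p G := by
    apply frobHyp_of_prime_power P
    intro Q hQP q hq hqp _ A hA hAN
    by_cases hQ : Q = ⊥
    · rw [hQ]
      intro a _
      rw [Subgroup.mem_centralizer_iff]
      intro y hy
      have : y = 1 := hy
      rw [this, one_mul, mul_one]
    have hQp : IsPGroup p Q := hPp.to_le hQP
    obtain ⟨a, ha⟩ := IsPGroup.iff_card.mp hA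
    obtain ⟨b, hb⟩ := IsPGroup.iff_card.mp hQp
    have hpq : Nat.Coprime q p := (Nat.coprime_primes hq.out hp.out).mpr hqp
    have hcop : (Nat.card A).Coprime (Nat.card Q) := by
      rw [ha, hb]; exact Nat.Coprime.pow _ _ hpq
    have hc := card_sup_of_coprime A Q hAN hcop
    have hpQ : p ∣ Nat.card Q := by
      rw [hb]
      apply dvd_pow_self
      rintro rfl
      rw [pow_zero] at hb
      exact hQ (Subgroup.card_eq_one.mp hb)
    have hL : Group.IsNilpotent ↥(A ⊔ Q : Subgroup G) := by
      apply hE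
      · intro htop
        apply hPn
        have h1 : Nat.card (P : Subgroup G) ∣ Nat.card A * Nat.card Q := by
          rw [← hc, htop, Subgroup.card_top]; exact Subgroup.card_subgroup_dvd_card _
        obtain ⟨c, hcP⟩ := IsPGroup.iff_card.mp hPp
        have h2 : Nat.card (P : Subgroup G) ∣ Nat.card Q :=
          Nat.Coprime.dvd_of_dvd_mul_left (by rw [hcP, ha]; exact Nat.Coprime.pow _ _ hpq.symm) h1
        have h3 : Q = P := Subgroup.eq_of_le_of_card_ge hQP (Nat.le_of_dvd Nat.card_pos h2)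
        rw [← h3, ← Subgroup.normalizer_eq_top_iff, eq_top_iff, ← htop]
        exact sup_le hAN Subgroup.le_normalizer
      · exact hpQ.trans (Subgroup.card_dvd_of_le le_sup_right)
    exact centralizes_of_nilpotent hL le_sup_right le_sup_left hQp (by rw [ha]; exact Nat.Coprime.pow_left _ hpq) hAN
  have hK := frobenius_aux _ G rfl hF
  haveI hKn := pResidual_normal (G := G) p
  have hsup := sylow_sup_pResidual P
  obtain ⟨c, hcP⟩ := IsPGroup.iff_card.mp hPp
  have hcopPK : (Nat.card (P : Subgroup G)).Coprime (Nat.card (Cfsg.pResidual p G)) := by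
    rw [hcP]; exact Nat.Coprime.pow_left _ hK.symm
  have hPK : (P : Subgroup G) ≤ Subgroup.normalizer ((Cfsg.pResidual p G : Subgroup G) : Set G) := by
    rw [Subgroup.normalizer_eq_top_iff.mpr hKn]; exact le_top
  have hne : Cfsg.pResidual p G ⊓ Subgroup.centralizer ((P : Subgroup G) : Set G) ≠ Cfsg.pResidual p G := by
    intro e
    apply hPn
    rw [← Subgroup.normalizer_eq_top_iff, eq_top_iff, ← hsup]
    refine sup_le Subgroup.le_normalizer ?_
    exact (inf_eq_left.mp e).trans (Subgroup.centralizer_le_normalizer _)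
  have hex : ∃ q : ℕ, q.Prime ∧ ¬ ∃ R ≤ Cfsg.pResidual p G ⊓ Subgroup.centralizer ((P : Subgroup G) : Set G),
      Nat.card R = q ^ (Nat.card (Cfsg.pResidual p G)).factorization q := by
    by_contra hcon
    push Not at hcon
    exact hne (eq_of_forall_sylow_le inf_le_left (fun q hq => hcon q hq))
  obtain ⟨q, hq, hqR⟩ := hex
  haveI := Fact.mk hq
  have hPsol : Group.IsSolvable (P : Subgroup G) := by
    have := hPp.isNilpotent
    infer_instance
  obtain ⟨Q, hQK, hQc, hPQ⟩ := exists_invariant_sylow (P : Subgroup G) (Cfsg.pResidual p G) hPK hcopPK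
    (Or.inl hPsol) q
  have hQC : ¬ Q ≤ Subgroup.centralizer ((P : Subgroup G) : Set G) := fun hc => hqR ⟨Q, le_inf hQK hc, hQc⟩
  have hcopPQ : (Nat.card (P : Subgroup G)).Coprime (Nat.card Q) :=
    Nat.Coprime.coprime_dvd_right (Subgroup.card_dvd_of_le hQK) hcopPK
  have htop : (P : Subgroup G) ⊔ Q = ⊤ := by
    by_contra hne2
    have hL := hE _ hne2 (hpP.trans (Subgroup.card_dvd_of_le le_sup_left))
    -- P centralizes Q
    have hQq : IsPGroup q Q := IsPGroup.of_card hQc
    have hpq : p ≠ q := by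
      rintro rfl
      apply hQC
      have h1 : Nat.card Q = 1 := by
        rw [hQc, Nat.factorization_eq_zero_of_not_dvd, pow_zero]
        intro hd
        exact hp.out.one_lt.ne' (Nat.Coprime.eq_one_of_dvd hK.symm hd)
      rw [Subgroup.card_eq_one.mp h1]; exact bot_le
    apply hQC
    intro y hy
    rw [Subgroup.mem_centralizer_iff]
    intro x hx
    exact Cfsg.Agent.Lib.Helper2.Schmidt.commute_of_le_nilpotent hL le_sup_left le_sup_right hpq hPp hQq x hx y hy
  have hcG := card_sup_of_coprime (P : Subgroup G) Q hPQ hcopPQ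
  rw [htop, Subgroup.card_top] at hcG
  refine ⟨hnil, fun L hL => ?_⟩
  by_cases hpL : p ∣ Nat.card L
  · exact hE L hL hpL
  · have h1 : Nat.card L ∣ Nat.card (P : Subgroup G) * Nat.card Q := by
      rw [← hcG]; exact Subgroup.card_subgroup_dvd_card L
    have h2 : Nat.card L ∣ Nat.card Q :=
      Nat.Coprime.dvd_of_dvd_mul_left (by
        rw [hcP]; exact Nat.Coprime.pow_right _ ((Nat.Prime.coprime_iff_not_dvd hp.out).mpr hpL).symm) h1
    rw [hQc] at h2
    obtain ⟨k, -, hk⟩ := (Nat.dvd_prime_pow hq).mp h2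
    exact (IsPGroup.of_card hk).isNilpotent


theorem backward_prod {G : Type*} [Group G] [Finite G] (p : ℕ) [hp : Fact p.Prime] (Z K : Subgroup G)
    (hZn : Z.Normal) (hKn : K.Normal) (hinf : Z ⊓ K = ⊥) (hsup : Z ⊔ K = ⊤) (hZc : Nat.card Z = p)
    (hK : Cfsg.IsMinimalNonNilpotent K) (hpK : ¬ p ∣ Nat.card K) (M : Subgroup G) (hM : IsCoatom M)
    (hpM : p ∣ Nat.card M) : Group.IsNilpotent M := by
  have hcard := card_sup_of_disjoint Z K hinf
  rw [hsup, Subgroup.card_top] at hcard
  have hidx : Z.index = Nat.card K :=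
    Nat.eq_of_mul_eq_mul_left Nat.card_pos (Z.card_mul_index.trans hcard)
  obtain ⟨x, hx⟩ := exists_prime_orderOf_dvd_card' (G := M) p hpM
  have hxo : orderOf (x : G) = p := by rw [Subgroup.orderOf_coe]; exact hx
  have hxZ : (x : G) ∈ Z := by
    rw [← QuotientGroup.eq_one_iff]
    have h1 : orderOf (QuotientGroup.mk' Z (x : G)) ∣ p := hxo ▸ orderOf_map_dvd _ _
    have h2 : orderOf (QuotientGroup.mk' Z (x : G)) ∣ Nat.card K := by
      rw [← hidx, Subgroup.index_eq_card]; exact orderOf_dvd_natCard _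
    have h3 : orderOf (QuotientGroup.mk' Z (x : G)) = 1 :=
      Nat.eq_one_of_dvd_coprimes ((Nat.Prime.coprime_iff_not_dvd hp.out).mpr hpK) h1 h2
    exact orderOf_eq_one_iff.mp h3
  have hZM : Z ≤ M := by
    have h1 : Subgroup.zpowers (x : G) = Z :=
      Subgroup.eq_of_le_of_card_ge ((Subgroup.zpowers_le).mpr hxZ) (by rw [Nat.card_zpowers, hxo, hZc])
    rw [← h1]; exact (Subgroup.zpowers_le).mpr x.2
  have hMeq : M = Z ⊔ (M ⊓ K) := by
    apply le_antisymm
    · intro m hm
      have hm' : m ∈ Z ⊔ K := by rw [hsup]; trivial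
      rw [← SetLike.mem_coe, Subgroup.mul_normal Z K] at hm'
      obtain ⟨z, hz, k, hk, rfl⟩ := hm'
      have hkM : k ∈ M := by
        have : k = z⁻¹ * (z * k) := by group
        rw [this]; exact M.mul_mem (M.inv_mem (hZM hz)) hm
      exact Subgroup.mul_mem _ ((le_sup_left : Z ≤ Z ⊔ (M ⊓ K)) hz)
        ((le_sup_right : M ⊓ K ≤ Z ⊔ (M ⊓ K)) ⟨hkM, hk⟩)
    · exact sup_le hZM inf_le_left
  have hMK : Group.IsNilpotent ↥(M ⊓ K : Subgroup G) := by
    have h1 : (M ⊓ K).subgroupOf K ≠ ⊤ := by
      intro e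
      rw [Subgroup.subgroupOf_eq_top] at e
      apply hM.1
      rw [eq_top_iff, ← hsup]
      exact sup_le hZM (e.trans inf_le_left)
    have h2 := hK.2 _ h1
    exact Group.nilpotent_of_mulEquiv (Subgroup.subgroupOfEquivOfLe (inf_le_right : M ⊓ K ≤ K))
  have hZp : IsPGroup p Z := IsPGroup.of_card (n := 1) (by rw [pow_one]; exact hZc)
  rw [hMeq]
  apply nilpotent_sup hZp.isNilpotent hMK
  · change M ⊓ K ≤ Subgroup.normalizer (Z : Set G)
    rw [Subgroup.normalizer_eq_top_iff.mpr hZn]; exact le_top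
  · change Z ≤ Subgroup.normalizer ((M ⊓ K : Subgroup G) : Set G)
    refine le_trans ?_ (Subgroup.centralizer_le_normalizer _)
    intro z hz
    rw [Subgroup.mem_centralizer_iff]
    intro k hk
    exact (Subgroup.commute_of_normal_of_disjoint Z K hZn hKn (disjoint_iff.mpr hinf) z k hz hk.2).symm

end Cfsg.Agent.Lib.Helper1
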