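import Mathlib
import Cfsg.Prelude.Def_Transfer
import Cfsg.Agent.Lib.Helper1.ClassTwo
import Cfsg.Agent.Lib.Helper1.Coprime
import Cfsg.Agent.S1894
import Cfsg.Agent.S0016

set_option autoImplicit false

namespace Cfsg.Agent.Lib.Helper1.NormalEA

open Cfsg
open Cfsg.Agent.Lib.Helper1
open scoped commutatorElement

theorem build_A {R : Type*} [Group R] [Finite R] {p : ℕ} [hp : Fact p.Prime] (z x : R)
    (hz : z ∈ Subgroup.center R) (hzo : orderOf z = p) (hx : x ∉ Subgroup.zpowers z) (hxp : x ^ p = 1)
    (hc : ∀ g : R, ⁅x, g⁆ ∈ Subgroup.zpowers z) :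
    (Subgroup.closure ({z, x} : Set R)).Normal ∧ Cfsg.IsElementaryAbelian p (Subgroup.closure ({z, x} : Set R)) ∧
      Nat.card (Subgroup.closure ({z, x} : Set R)) = p ^ 2 := by
  have hzx : z * x = x * z := (Subgroup.mem_center_iff.mp hz x).symm
  have hcomm : ∀ a ∈ ({z, x} : Set R), ∀ b ∈ ({z, x} : Set R), a * b = b * a := by
    intro a ha b hb
    rcases ha with rfl | rfl <;> rcases hb with rfl | rfl
    · rfl
    · exact hzx
    · exact hzx.symm
    · rfl
  have hA : IsMulCommutative (Subgroup.closure ({z, x} : Set R)) := Subgroup.isMulCommutative_closure hcomm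
  have hzp : z ^ p = 1 := by rw [← hzo]; exact pow_orderOf_eq_one z
  have hzA : z ∈ Subgroup.closure ({z, x} : Set R) := Subgroup.subset_closure (by simp)
  have hxA : x ∈ Subgroup.closure ({z, x} : Set R) := Subgroup.subset_closure (by simp)
  refine ⟨?_, ⟨hA, ?_⟩, ?_⟩
  · constructor
    intro n hn g
    induction hn using Subgroup.closure_induction with
    | mem y hy =>
      rcases hy with rfl | rfl
      · have : g * y * g⁻¹ = y := by
          rw [Subgroup.mem_center_iff.mp hz g]; group
        rw [this]; exact hzA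
      · have e : g * y * g⁻¹ = (⁅y, g⁆)⁻¹ * y := by
          rw [commutatorElement_def]; group
        rw [e]
        exact Subgroup.mul_mem _ (Subgroup.inv_mem _ ((Subgroup.zpowers_le.mpr hzA) (hc g))) hxA
    | one => simp
    | mul a b _ _ h1 h2 =>
      have e : g * (a * b) * g⁻¹ = (g * a * g⁻¹) * (g * b * g⁻¹) := by group
      rw [e]; exact Subgroup.mul_mem _ h1 h2
    | inv a _ h1 =>
      have e : g * a⁻¹ * g⁻¹ = (g * a * g⁻¹)⁻¹ := by group
      rw [e]; exact Subgroup.inv_mem _ h1
  · intro a ha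
    induction ha using Subgroup.closure_induction with
    | mem y hy =>
      rcases hy with rfl | rfl
      · exact hzp
      · exact hxp
    | one => simp
    | mul a b ha hb h1 h2 =>
      have : Commute a b := by
        have := hA.is_comm.comm ⟨a, ha⟩ ⟨b, hb⟩
        exact congrArg Subtype.val this
      rw [this.mul_pow, h1, h2, one_mul]
    | inv a _ h1 => rw [inv_pow, h1, inv_one]
  · have hx1 : x ≠ 1 := by
      rintro rfl; exact hx (Subgroup.one_mem _)
    have hxo : orderOf x = p := orderOf_eq_prime hxp hx1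
    have e : Subgroup.closure ({z, x} : Set R) = Subgroup.zpowers x ⊔ Subgroup.zpowers z := by
      rw [Subgroup.zpowers_eq_closure, Subgroup.zpowers_eq_closure, ← Subgroup.closure_union]
      congr 1
      ext y; simp [or_comm]
    have hZn : (Subgroup.zpowers z).Normal := by
      constructor
      intro n hn g
      have hnc : n ∈ Subgroup.center R := (Subgroup.zpowers_le.mpr hz) hn
      have : g * n * g⁻¹ = n := by
        rw [Subgroup.mem_center_iff.mp hnc g]; group
      rw [this]; exact hn
    have h1 := card_sup_mul_card_inf' (Subgroup.zpowers x) (Subgroup.zpowers z)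
      (by rw [Subgroup.normalizer_eq_top]; exact le_top)
    have h2 : Subgroup.zpowers x ⊓ Subgroup.zpowers z = ⊥ := by
      have h3 : Nat.card (Subgroup.zpowers x ⊓ Subgroup.zpowers z : Subgroup R) ∣ p := by
        have := Subgroup.card_dvd_of_le (inf_le_left : Subgroup.zpowers x ⊓ Subgroup.zpowers z ≤ Subgroup.zpowers x)
        rwa [Nat.card_zpowers, hxo] at this
      rcases (Nat.dvd_prime hp.out).mp h3 with h4 | h4
      · exact Subgroup.card_eq_one.mp h4
      · exfalso
        have h5 : Subgroup.zpowers x ⊓ Subgroup.zpowers z = Subgroup.zpowers x :=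
          Subgroup.eq_of_le_of_card_ge inf_le_left (by rw [h4, Nat.card_zpowers, hxo])
        apply hx
        have : Subgroup.zpowers x ≤ Subgroup.zpowers z := by
          rw [← h5]; exact inf_le_right
        exact this (Subgroup.mem_zpowers x)
    rw [h2, Subgroup.card_bot, mul_one, Nat.card_zpowers, Nat.card_zpowers, hxo, hzo] at h1
    rw [e, h1, pow_two]

theorem core {R : Type*} [Group R] [Finite R] {p : ℕ} [hp : Fact p.Prime] (hR : IsPGroup p R) (z : R)
    (hz : z ∈ Subgroup.center R) (hzo : orderOf z = p) (B : Subgroup R) [hB : B.Normal] (hzB : z ∈ B)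
    (hmul : ∀ a ∈ B, ∀ b ∈ B, (a * b) ^ p = a ^ p * b ^ p)
    (hex : ∃ x ∈ B, x ∉ Subgroup.zpowers z ∧ x ^ p = 1) :
    ∃ A : Subgroup R, A ≤ B ∧ A.Normal ∧ Cfsg.IsElementaryAbelian p A ∧ Nat.card A = p ^ 2 := by
  let Ω : Subgroup R :=
    { carrier := {x | x ∈ B ∧ x ^ p = 1}
      one_mem' := ⟨B.one_mem, one_pow _⟩
      mul_mem' := by
        rintro a b ⟨ha, ha2⟩ ⟨hb, hb2⟩
        exact ⟨B.mul_mem ha hb, by rw [hmul a ha b hb, ha2, hb2, one_mul]⟩
      inv_mem' := by
        rintro a ⟨ha, ha2⟩
        exact ⟨B.inv_mem ha, by rw [inv_pow, ha2, inv_one]⟩ }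
  haveI hΩ : Ω.Normal := by
    constructor
    rintro n ⟨hn, hn2⟩ g
    refine ⟨hB.conj_mem n hn g, ?_⟩
    rw [conj_pow, hn2]; group
  haveI : Group.IsNilpotent R := hR.isNilpotent
  obtain ⟨x0, hx0B, hx0Z, hx0p⟩ := hex
  have hnle : ¬ Ω ≤ Subgroup.zpowers z := fun h => hx0Z (h ⟨hx0B, hx0p⟩)
  obtain ⟨x, hx, hxZ, hxc⟩ := Cfsg.Agent.S1894.exists_central_mod (Subgroup.zpowers z) Ω hnle
  obtain ⟨h1, h2, h3⟩ := build_A z x hz hzo hxZ hx.2 hxc
  refine ⟨_, ?_, h1, h2, h3⟩
  rw [Subgroup.closure_le]
  rintro y (rfl | rfl)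
  · exact hzB
  · exact hx.1


universe u

theorem main {p : ℕ} [hp : Fact p.Prime] (hp2 : p ≠ 2) : ∀ n : ℕ, ∀ (R : Type u) [Group R] [Finite R],
    Nat.card R = n → IsPGroup p R → ∀ S : Subgroup R, S.Normal → ¬ IsCyclic S →
    ∃ A : Subgroup R, A ≤ S ∧ A.Normal ∧ Cfsg.IsElementaryAbelian p A ∧ Nat.card A = p ^ 2 := by
  intro n
  induction n using Nat.strong_induction_on with
  | _ n ih =>
  intro R _ _ hn hR S hSn hS
  haveI : Group.IsNilpotent R := hR.isNilpotent
  have hSbot : ¬ S ≤ ⊥ := by
    intro h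
    apply hS
    have : S = ⊥ := le_bot_iff.mp h
    rw [this]
    infer_instance
  obtain ⟨x, hxS, hx1, hxc⟩ := Cfsg.Agent.S1894.exists_central_mod ⊥ S hSbot
  have hxZ : x ∈ Subgroup.center R := by
    rw [Subgroup.mem_center_iff]
    intro g
    have := hxc g
    rw [Subgroup.mem_bot, commutatorElement_eq_one_iff_mul_comm] at this
    exact this.symm
  have hTne : S ⊓ Subgroup.center R ≠ ⊥ := by
    intro h
    apply hx1
    rw [← h]; exact ⟨hxS, hxZ⟩
  haveI : Nontrivial (S ⊓ Subgroup.center R : Subgroup R) := (Subgroup.nontrivial_iff_ne_bot _).mpr hTne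
  obtain ⟨e, he0, he⟩ := (hR.to_subgroup (S ⊓ Subgroup.center R)).nontrivial_iff_card.mp inferInstance
  obtain ⟨z', hz'⟩ := exists_prime_orderOf_dvd_card' (G := (S ⊓ Subgroup.center R : Subgroup R)) p
    (by rw [he]; exact dvd_pow_self p he0.ne')
  obtain ⟨z, hzS, hz, hzo⟩ : ∃ z : R, z ∈ S ∧ z ∈ Subgroup.center R ∧ orderOf z = p :=
    ⟨z'.1, z'.2.1, z'.2.2, by rw [Subgroup.orderOf_coe]; exact hz'⟩
  have hzp : z ^ p = 1 := by rw [← hzo]; exact pow_orderOf_eq_one z
  have hZc : Subgroup.zpowers z ≤ Subgroup.center R := Subgroup.zpowers_le.mpr hz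
  have hZS : Subgroup.zpowers z ≤ S := Subgroup.zpowers_le.mpr hzS
  haveI hZn : (Subgroup.zpowers z).Normal := by
    constructor
    intro n hn g
    have hnc : n ∈ Subgroup.center R := hZc hn
    have : g * n * g⁻¹ = n := by
      rw [Subgroup.mem_center_iff.mp hnc g]; group
    rw [this]; exact hn
  have hZp : ∀ c ∈ Subgroup.zpowers z, c ^ p = 1 := by
    intro c hc
    obtain ⟨k, rfl⟩ := hc
    show (z ^ k) ^ p = 1
    rw [← zpow_natCast, ← zpow_mul, mul_comm, zpow_mul, zpow_natCast, hzp, one_zpow]
  by_cases hcyc : IsCyclic (S.map (QuotientGroup.mk' (Subgroup.zpowers z)))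
  · -- S abelian
    have hScomm : ∀ a b : S, a * b = b * a := by
      apply commutative_of_cyclic_center_quotient ((QuotientGroup.mk' (Subgroup.zpowers z)).subgroupMap S)
      intro y hy
      rw [MonoidHom.mem_ker] at hy
      have h1 : (QuotientGroup.mk' (Subgroup.zpowers z)) y.1 = 1 := congrArg Subtype.val hy
      rw [QuotientGroup.mk'_apply, QuotientGroup.eq_one_iff] at h1
      rw [Subgroup.mem_center_iff]
      intro g
      exact Subtype.ext (Subgroup.mem_center_iff.mp (hZc h1) g.1)
    apply core hR z hz hzo S hzS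
    · intro a ha b hb
      have : Commute a b := congrArg Subtype.val (hScomm ⟨a, ha⟩ ⟨b, hb⟩)
      exact this.mul_pow p
    · by_contra hcon
      push Not at hcon
      apply hS
      have hcardZ : Nat.card ((Subgroup.zpowers z).subgroupOf S) = p := by
        rw [Nat.card_congr (Subgroup.subgroupOfEquivOfLe hZS).toEquiv, Nat.card_zpowers, hzo]
      have huniq : ∀ H : Subgroup S, Nat.card H = p → H = (Subgroup.zpowers z).subgroupOf S := by
        intro H hH
        apply Subgroup.eq_of_le_of_card_ge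
        · intro h hh
          rw [Subgroup.mem_subgroupOf]
          by_contra hnot
          apply hcon h.1 h.2 hnot
          have h1 : (⟨h, hh⟩ : H) ^ Nat.card H = 1 := pow_card_eq_one'
          rw [hH] at h1
          have h2 := congrArg (fun y : H => (y.1.1 : R)) h1
          simpa using h2
        · rw [hcardZ, hH]
      rcases Cfsg.Agent.S0016.result (G := S) p (hR.to_subgroup S)
        (fun H K hH hK => (huniq H hH).trans (huniq K hK).symm) with h | h
      · exact h
      · exact absurd h.1 hp2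
  · -- quotient
    have hcard : Nat.card (R ⧸ Subgroup.zpowers z) < n := by
      have h1 := Subgroup.card_eq_card_quotient_mul_card_subgroup (Subgroup.zpowers z)
      rw [Nat.card_zpowers, hzo, hn] at h1
      have h2 : 0 < Nat.card (R ⧸ Subgroup.zpowers z) := Nat.card_pos
      have h3 := hp.out.two_le
      nlinarith
    haveI hSmap : (S.map (QuotientGroup.mk' (Subgroup.zpowers z))).Normal :=
      hSn.map _ (QuotientGroup.mk'_surjective _)
    obtain ⟨A', hA'S, hA'n, ⟨hA'c, hA'e⟩, hA'card⟩ := ih _ hcard (R ⧸ Subgroup.zpowers z) rfl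
      (hR.to_quotient _) _ hSmap hcyc
    have hBS : A'.comap (QuotientGroup.mk' (Subgroup.zpowers z)) ≤ S := by
      intro b hb
      obtain ⟨s, hs, hsb⟩ := hA'S (Subgroup.mem_comap.mp hb)
      rw [QuotientGroup.mk'_apply, QuotientGroup.mk'_apply, QuotientGroup.eq] at hsb
      have := S.mul_mem hs (hZS hsb)
      rwa [mul_inv_cancel_left] at this
    haveI hBn : (A'.comap (QuotientGroup.mk' (Subgroup.zpowers z))).Normal := hA'n.comap _
    have hmul : ∀ a ∈ A'.comap (QuotientGroup.mk' (Subgroup.zpowers z)),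
        ∀ b ∈ A'.comap (QuotientGroup.mk' (Subgroup.zpowers z)), (a * b) ^ p = a ^ p * b ^ p := by
      intro a ha b hb
      have hc : ⁅b, a⁆ ∈ Subgroup.zpowers z := by
        rw [← QuotientGroup.eq_one_iff]
        have h1 := hA'c.is_comm.comm ⟨_, Subgroup.mem_comap.mp hb⟩ ⟨_, Subgroup.mem_comap.mp ha⟩
        have h2 : (QuotientGroup.mk' (Subgroup.zpowers z)) b * (QuotientGroup.mk' (Subgroup.zpowers z)) a
          = (QuotientGroup.mk' (Subgroup.zpowers z)) a * (QuotientGroup.mk' (Subgroup.zpowers z)) b :=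
          congrArg Subtype.val h1
        show (QuotientGroup.mk' (Subgroup.zpowers z)) ⁅b, a⁆ = 1
        rw [map_commutatorElement, commutatorElement_eq_one_iff_mul_comm]
        exact h2
      have hcc := Subgroup.mem_center_iff.mp (hZc hc)
      rw [mul_pow_of_class_two (hcc a).symm (hcc b).symm p]
      have hdvd : p ∣ p.choose 2 := hp.out.dvd_choose_self (by norm_num)
        (lt_of_le_of_ne hp.out.two_le (Ne.symm hp2))
      obtain ⟨k, hk⟩ := hdvd
      rw [hk, pow_mul, hZp _ hc, one_pow, mul_one]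
    obtain ⟨A, hAB, h1, h2, h3⟩ := core hR z hz hzo (A'.comap (QuotientGroup.mk' (Subgroup.zpowers z)))
      (by
        rw [Subgroup.mem_comap]
        have : (QuotientGroup.mk' (Subgroup.zpowers z)) z = 1 := by
          rw [QuotientGroup.mk'_apply, QuotientGroup.eq_one_iff]; exact Subgroup.mem_zpowers z
        rw [this]; exact A'.one_mem) hmul
      (by
        have hout : ∀ a : A', (QuotientGroup.mk' (Subgroup.zpowers z)) (Quotient.out a.1) = a.1 := by
          intro a
          exact Quotient.out_eq' a.1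
        have hφ : ∀ a : A', (Quotient.out a.1) ^ p ∈ Subgroup.zpowers z := by
          intro a
          rw [← QuotientGroup.eq_one_iff]
          show (QuotientGroup.mk' (Subgroup.zpowers z)) ((Quotient.out a.1) ^ p) = 1
          rw [map_pow, hout]
          exact hA'e a.1 a.2
        have hninj : ¬ Function.Injective (fun a : A' => (⟨(Quotient.out a.1) ^ p, hφ a⟩ : Subgroup.zpowers z)) := by
          intro hinj
          have := Nat.card_le_card_of_injective _ hinj
          rw [hA'card, Nat.card_zpowers, hzo] at this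
          have h3 := hp.out.two_le
          nlinarith
        unfold Function.Injective at hninj
        push Not at hninj
        obtain ⟨a, b, hab, hne⟩ := hninj
        have hab' : (Quotient.out a.1) ^ p = (Quotient.out b.1) ^ p := congrArg Subtype.val hab
        have haB : Quotient.out a.1 ∈ A'.comap (QuotientGroup.mk' (Subgroup.zpowers z)) := by
          rw [Subgroup.mem_comap, hout]; exact a.2
        have hbB : Quotient.out b.1 ∈ A'.comap (QuotientGroup.mk' (Subgroup.zpowers z)) := by
          rw [Subgroup.mem_comap, hout]; exact b.2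
        refine ⟨(Quotient.out b.1)⁻¹ * Quotient.out a.1, Subgroup.mul_mem _ (Subgroup.inv_mem _ hbB) haB, ?_, ?_⟩
        · intro hmem
          apply hne
          apply Subtype.ext
          rw [← hout a, ← hout b, QuotientGroup.mk'_apply, QuotientGroup.mk'_apply, eq_comm, QuotientGroup.eq]
          exact hmem
        · rw [hmul _ (Subgroup.inv_mem _ hbB) _ haB, hab', inv_pow, inv_mul_cancel])
    exact ⟨A, hAB.trans hBS, h1, h2, h3⟩

end Cfsg.Agent.Lib.Helper1.NormalEA
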