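import Mathlib
import Cfsg.Prelude.Def_Solvable
import Cfsg.Agent.Lib.Helper6.Nil
import Cfsg.Agent.Lib.Helper2.Subnormal
import Cfsg.Agent.Lib.Helper1.Basic

set_option autoImplicit false

/-! Subnormality: relative join theorem, the zipper lemma, Wielandt type criteria. -/

namespace Cfsg.Agent.Lib.Helper1

open Cfsg.Agent.Lib.Helper6.Basic Cfsg.Agent.Lib.Helper6.Subn
open scoped Pointwise

variable {G : Type*} [Group G]

theorem SN_sup [Finite G] {S T K : Subgroup G} (hS : SN S K) (hT : SN T K) : SN (S ⊔ T) K := by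
  have h1 := hS.subgroupOf
  have h2 := hT.subgroupOf
  have h3 := Cfsg.Agent.Lib.Helper2.Subnormal.isSubnormal_sup h1 h2
  have h4 := map_subtype_SN h3
  rwa [Subgroup.map_sup, Subgroup.map_subgroupOf_eq_of_le hS.le,
    Subgroup.map_subgroupOf_eq_of_le hT.le] at h4

theorem SN_sSup [Finite G] {K : Subgroup G} (𝒮 : Set (Subgroup G)) (h : ∀ U ∈ 𝒮, SN U K) :
    SN (sSup 𝒮) K := by
  have hfin : 𝒮.Finite := Set.toFinite 𝒮
  induction 𝒮, hfin using Set.Finite.induction_on with
  | empty => rw [sSup_empty]; exact SN.bot K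
  | insert _ _ ih =>
    rw [sSup_insert]
    exact SN_sup (h _ (Set.mem_insert _ _)) (ih fun U hU => h U (Set.mem_insert_of_mem _ hU))

theorem SN_exists_conj_aux {M K : Subgroup G} (h : SN M K) :
    ∀ H ≤ M, M ≤ Nz H → K ≤ Nz H ∨ ∃ g ∈ K, cj g H ≠ H ∧ cj g H ≤ Nz H := by
  induction h with
  | refl K => intro H _ h2; exact Or.inl h2
  | @step M M2 K a b c ih =>
    intro H hH hM
    by_cases h2 : M2 ≤ Nz H
    · exact ih H (hH.trans a) h2
    · right
      obtain ⟨g, hg, hgN⟩ := SetLike.not_le_iff_exists.mp h2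
      refine ⟨g, c.le hg, fun he => hgN (cj_eq_self_iff.mp he), ?_⟩
      have h3 : cj g M = M := cj_eq_self_iff.mpr (b hg)
      calc cj g H ≤ cj g M := cj_mono hH
        _ = M := h3
        _ ≤ Nz H := hM

/-- a subnormal, non-normal subgroup normalises one of its other conjugates -/
theorem SN_exists_conj {H K : Subgroup G} (h : SN H K) :
    K ≤ Nz H ∨ ∃ g ∈ K, cj g H ≠ H ∧ cj g H ≤ Nz H :=
  SN_exists_conj_aux h H le_rfl Subgroup.le_normalizer

theorem SN_lt_of_ne {H K : Subgroup G} (h : SN H K) (hne : H ≠ K) :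
    ∃ L, H < L ∧ L ≤ Nz H ∧ SN L K := by
  induction h with
  | refl K => exact absurd rfl hne
  | @step H M K a b c ih =>
    by_cases hHM : H = M
    · subst hHM
      exact ih hne
    · exact ⟨M, lt_of_le_of_ne a hHM, b, c⟩

/-- Wielandt's zipper lemma. -/
theorem zipper [Finite G] : ∀ (n : ℕ) (S : Subgroup G), S.index = n →
    (∀ H, S ≤ H → H ≠ ⊤ → SN S H) → ¬ SN S ⊤ →
    ∃ M, IsCoatom M ∧ S ≤ M ∧ ∀ K, IsCoatom K → S ≤ K → K = M := by
  intro n
  induction n using Nat.strong_induction_on with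
  | _ n ih =>
  intro S hn h hS
  have hN : Nz S ≠ ⊤ := by
    intro he
    exact hS (SN.of_normal le_top (he ▸ le_rfl))
  obtain ⟨M, hM, hNM⟩ := (eq_top_or_exists_le_coatom (Nz S)).resolve_left hN
  refine ⟨M, hM, Subgroup.le_normalizer.trans hNM, ?_⟩
  intro K hK hSK
  rcases SN_exists_conj (h K hSK hK.1) with h1 | ⟨x, hxK, hne, hle⟩
  · exact hK.le_iff_eq hM.1 |>.mp (h1.trans hNM) |>.symm ▸ rfl
  · obtain ⟨T, hT⟩ : ∃ T, T = S ⊔ cj x S := ⟨_, rfl⟩
    have hS_le : S ≤ T := hT ▸ le_sup_left
    have hx_le : cj x S ≤ T := hT ▸ le_sup_right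
    have hST : S < T := by
      refine lt_of_le_of_ne hS_le ?_
      intro he
      have h2 : cj x S ≤ S := he.symm ▸ hx_le
      apply hne
      exact Subgroup.eq_of_le_of_card_ge h2 (le_of_eq (card_cj x S).symm)
    have hTN : T ≤ Nz S := hT ▸ sup_le Subgroup.le_normalizer hle
    have hTK : T ≤ K := hT ▸ sup_le hSK (by
      have : cj x S ≤ cj x K := cj_mono hSK
      rwa [cj_eq_self_of_mem hxK] at this)
    have hT1 : ∀ H, T ≤ H → H ≠ ⊤ → SN T H := by
      intro H hTH hH
      rw [hT]
      apply SN_sup (h H (hS_le.trans hTH) hH)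
      have h3 : S ≤ cj x⁻¹ H := by rw [← cj_le_iff]; exact hx_le.trans hTH
      have h4 : cj x⁻¹ H ≠ ⊤ := by
        intro he
        apply hH
        have := congrArg (cj x) he
        rwa [cj_cj_inv, cj_top] at this
      have h5 := (h _ h3 h4).cj x
      rwa [cj_cj_inv] at h5
    have hT2 : ¬ SN T ⊤ := fun hc => hS ((SN.of_normal hST.le hTN).trans hc)
    have hidx : T.index < n := by
      rw [← hn]
      have h6 := Subgroup.relIndex_mul_index hST.le
      have h7 : S.relIndex T ≠ 1 := by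
        intro he
        exact absurd (Subgroup.relIndex_eq_one.mp he) (not_le_of_gt hST)
      have h8 : S.relIndex T ≠ 0 := by
        intro he
        rw [he, zero_mul] at h6
        exact Subgroup.index_ne_zero_of_finite h6.symm
      have h9 : T.index ≠ 0 := Subgroup.index_ne_zero_of_finite
      rw [← h6]
      have : 2 ≤ S.relIndex T := by omega
      nlinarith [Nat.pos_of_ne_zero h9]
    obtain ⟨M', _, _, huniq⟩ := ih _ hidx T rfl hT1 hT2
    rw [huniq K hK hTK, huniq M hM (hTN.trans hNM)]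

theorem zipper' [Finite G] (S : Subgroup G)
    (h : ∀ H, S ≤ H → H ≠ ⊤ → SN S H) (hS : ¬ SN S ⊤) :
    ∃ M, IsCoatom M ∧ S ≤ M ∧ ∀ K, IsCoatom K → S ≤ K → K = M :=
  zipper _ S rfl h hS

/-- relative form of the zipper lemma -/
theorem zipper_rel [Finite G] {S K : Subgroup G} (hSK : S ≤ K)
    (h : ∀ H, S ≤ H → H < K → SN S H) (hS : ¬ SN S K) :
    ∃ M, M < K ∧ S ≤ M ∧ ∀ H, S ≤ H → H < K → H ≤ M := by
  have h1 : ∀ H' : Subgroup K, S.subgroupOf K ≤ H' → H' ≠ ⊤ → SN (S.subgroupOf K) H' := by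
    intro H' hH' hne
    have hle : H'.map K.subtype ≤ K := Subgroup.map_subtype_le H'
    have hlt : H'.map K.subtype < K := by
      refine lt_of_le_of_ne hle ?_
      intro he
      apply hne
      rw [eq_top_iff]
      intro x _
      have hx : (x : G) ∈ H'.map K.subtype := by rw [he]; exact x.2
      obtain ⟨y, hy, hyx⟩ := hx
      have : y = x := Subtype.ext hyx
      exact this ▸ hy
    have hS' : S ≤ H'.map K.subtype := by
      have := Subgroup.map_mono (f := K.subtype) hH'
      rwa [Subgroup.map_subgroupOf_eq_of_le hSK] at this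
    have h2 := (h _ hS' hlt).comap K.subtype
    rwa [Subgroup.comap_map_eq_self_of_injective K.subtype_injective] at h2
  have h2 : ¬ SN (S.subgroupOf K) ⊤ := by
    intro hc
    exact hS ((subgroupOf_isSubnormal_iff hSK).mp (isSubnormal_iff.mpr hc))
  obtain ⟨M', hM', hSM', huniq⟩ := zipper' (S.subgroupOf K) h1 h2
  have hSM : S ≤ M'.map K.subtype := by
    have := Subgroup.map_mono (f := K.subtype) hSM'
    rwa [Subgroup.map_subgroupOf_eq_of_le hSK] at this
  refine ⟨M'.map K.subtype, ?_, hSM, ?_⟩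
  · refine lt_of_le_of_ne (Subgroup.map_subtype_le M') ?_
    intro he
    apply hM'.1
    rw [eq_top_iff]
    intro x _
    have hx : (x : G) ∈ M'.map K.subtype := by rw [he]; exact x.2
    obtain ⟨y, hy, hyx⟩ := hx
    have : y = x := Subtype.ext hyx
    exact this ▸ hy
  · intro H hSH hHK
    have hne : H.subgroupOf K ≠ ⊤ := by
      intro he
      rw [Subgroup.subgroupOf_eq_top] at he
      exact absurd he (not_le_of_gt hHK)
    obtain ⟨K', hK', hle⟩ := (eq_top_or_exists_le_coatom (H.subgroupOf K)).resolve_left hne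
    have h3 : S.subgroupOf K ≤ K' := le_trans (Subgroup.comap_mono hSH) hle
    have h4 := huniq K' hK' h3
    have h5 := Subgroup.map_mono (f := K.subtype) hle
    rwa [Subgroup.map_subgroupOf_eq_of_le hHK.le, h4] at h5

/-- induction principle for subnormality criteria inherited by subgroups -/
theorem SN_induction [Finite G] (A : Subgroup G)
    (step : ∀ K M : Subgroup G, A ≤ M → M < K → (∀ H, A ≤ H → H < K → H ≤ M) →
      (∀ H, A ≤ H → H < K → SN A H) → SN A K) : ∀ K, A ≤ K → SN A K := by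
  have key : ∀ (n : ℕ) (K : Subgroup G), Nat.card K = n → A ≤ K → SN A K := by
    intro n
    induction n using Nat.strong_induction_on with
    | _ n ih =>
    intro K hn hAK
    have h1 : ∀ H, A ≤ H → H < K → SN A H := by
      intro H hAH hHK
      exact ih _ (hn ▸ card_lt_of_lt hHK) H rfl hAH
    by_contra hc
    obtain ⟨M, hMK, hAM, hmax⟩ := zipper_rel hAK h1 hc
    exact hc (step K M hAM hMK hmax h1)
  exact fun K hK => key _ K rfl hK

/-- if all `K`-conjugates of `A` lie in a proper subgroup `M`, `A` is subnormal in `K` provided it is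
subnormal in every proper subgroup containing it -/
theorem SN_of_conj_le [Finite G] {A K M : Subgroup G} (hMK : M < K)
    (hsn : ∀ H, A ≤ H → H < K → SN A H) (hx : ∀ x ∈ K, cj x A ≤ M) : SN A K := by
  set L : Subgroup G := ⨆ x : K, cj (x : G) A with hL
  have hLM : L ≤ M := iSup_le fun x => hx x x.2
  have hAL : A ≤ L := by
    have := le_iSup (fun x : K => cj (x : G) A) 1
    simpa [cj_one] using this
  have hLK : L < K := lt_of_le_of_lt hLM hMK
  have hKN : K ≤ Nz L := by
    intro k hk
    rw [← cj_eq_self_iff]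
    have hle : ∀ k ∈ K, cj k L ≤ L := by
      intro k hk
      rw [hL, cj, Subgroup.map_iSup]
      apply iSup_le
      intro x
      have : cj k (cj (x : G) A) = cj ((⟨k * x, K.mul_mem hk x.2⟩ : K) : G) A := cj_cj _ _ _
      change cj k (cj (x : G) A) ≤ _
      rw [this]
      exact le_iSup (fun x : K => cj (x : G) A) ⟨k * x, K.mul_mem hk x.2⟩
    exact Subgroup.eq_of_le_of_card_ge (hle k hk) (le_of_eq (card_cj k L).symm)
  exact (hsn L hAL hLK).trans (SN.of_normal hLK.le hKN)

/-- the unique maximal subgroup is normal or self-normalising -/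
theorem mem_of_mem_normalizer_of_max [Finite G] {A K M : Subgroup G} (hAM : A ≤ M) (hMK : M < K)
    (hmax : ∀ H, A ≤ H → H < K → H ≤ M) (hn : ¬ K ≤ Nz M) {x : G} (hxK : x ∈ K) (hx : x ∈ Nz M) :
    x ∈ M := by
  have h1 : Nz M ⊓ K < K := by
    refine lt_of_le_of_ne inf_le_right ?_
    intro he
    exact hn (he ▸ inf_le_left)
  exact hmax _ (le_inf (hAM.trans Subgroup.le_normalizer) (hAM.trans hMK.le)) h1 ⟨hx, hxK⟩

theorem lt_inf_normalizer_of_nilpotent {P Q : Subgroup G} (hnil : Group.IsNilpotent P)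
    (hQP : Q < P) : Q < P ⊓ Subgroup.normalizer (Q : Set G) := by
  have hnc : NormalizerCondition P := Group.normalizerCondition_of_isNilpotent
  have h1 : Q.subgroupOf P < ⊤ := by
    rw [lt_top_iff_ne_top, Ne, Subgroup.subgroupOf_eq_top]
    exact hQP.not_ge
  have h2 := hnc _ h1
  rw [← Subgroup.subgroupOf_normalizer_eq hQP.le] at h2
  have h3 := (Subgroup.map_lt_map_iff_of_injective P.subtype_injective).mpr h2
  rwa [Subgroup.map_subgroupOf_eq_of_le hQP.le, Subgroup.subgroupOf_map_subtype, inf_comm] at h3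

/-- every subgroup of a finite nilpotent group is subnormal -/
theorem SN_of_nilpotent [Finite G] {N : Subgroup G} (hN : Group.IsNilpotent N) :
    ∀ (n : ℕ) (A : Subgroup G), Nat.card N - Nat.card A = n → A ≤ N → SN A N := by
  intro n
  induction n using Nat.strong_induction_on with
  | _ n ih =>
  intro A hn hAN
  rcases eq_or_lt_of_le hAN with rfl | hlt
  · exact SN.refl _
  · have h1 := lt_inf_normalizer_of_nilpotent hN hlt
    have h2 := card_lt_of_lt h1
    have h3 := card_lt_of_lt hlt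
    have h4 : Nat.card (N ⊓ Subgroup.normalizer (A : Set G) : Subgroup G) ≤ Nat.card N :=
      Subgroup.card_le_of_le inf_le_left
    exact SN.step h1.le inf_le_right (ih _ (by omega) _ rfl inf_le_left)

theorem SN_of_le_nilpotent [Finite G] {A N : Subgroup G} (hN : Group.IsNilpotent N) (hAN : A ≤ N) :
    SN A N := SN_of_nilpotent hN _ A rfl hAN

theorem le_fitting_of_SN [Finite G] {A : Subgroup G} (hA : SN A ⊤) (hn : Group.IsNilpotent A) :
    A ≤ Cfsg.fittingSubgroup G := by
  unfold Cfsg.fittingSubgroup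
  rw [Cfsg.Agent.Lib.Helper6.Rad.sSup_normal_eq]
  exact Cfsg.Agent.Lib.Helper6.Rad.le_Rd_of_sn Cfsg.Agent.Lib.Helper6.Nil.radClass_nilpotent hA hn

end Cfsg.Agent.Lib.Helper1
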